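import Groth.Agent.RegImm10.KoszulBlow
import Groth.Agent.RegImm10.BlowFlat
import Groth.Agent.CAlg1.Regular
import Groth.Agent.CAlg1.Serre
import Groth.Agent.Koszul19.Seq
import Groth.Agent.Div89.BlowUp
import Groth.Agent.S8851
import Groth.Agent.S1681
import Mathlib.RingTheory.RegularLocalRing.Polynomial

/-!
The blow-up of a regular local ring of dimension two in its maximal ideal: charts, exceptional line,
regularity, irreducibility.
-/

set_option autoImplicit false

noncomputable section

universe u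

open CategoryTheory CategoryTheory.Limits AlgebraicGeometry IsLocalRing

namespace Groth.Agent.Res23.BlowPoint

open RegImm10

variable {A : Type u} [CommRing A]

theorem spanFinrank_eq_two [IsRegularLocalRing A] (hA : ringKrullDim A = 2) :
    (maximalIdeal A).spanFinrank = 2 := by
  have h := IsRegularLocalRing.spanFinrank_maximalIdeal (R := A)
  rw [hA] at h
  exact_mod_cast h

theorem exists_pair [IsRegularLocalRing A] (hA : ringKrullDim A = 2) :
    ∃ a c : A, Ideal.span ({a, c} : Set A) = maximalIdeal A := by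
  obtain ⟨s, hs, hspan⟩ :=
    (IsNoetherian.noetherian (maximalIdeal A)).exists_span_finset_card_eq_spanFinrank
  classical
  rw [spanFinrank_eq_two hA] at hs
  obtain ⟨a, c, -, rfl⟩ := Finset.card_eq_two.1 hs
  exact ⟨a, c, by simpa using hspan⟩

theorem kR_pair [IsRegularLocalRing A] (hA : ringKrullDim A = 2) {a c : A}
    (h : Ideal.span ({a, c} : Set A) = maximalIdeal A) : Koszul19.KR (List.ofFn ![a, c]) := by
  refine Koszul19.kR_of_isWeaklyRegular _ (CAlg1.isWeaklyRegular_params A _ ?_ ?_)
  · rw [← h, Ideal.ofList]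
    congr 1
    ext x
    simp [or_comm, eq_comm]
  · rw [spanFinrank_eq_two hA, List.length_ofFn]

/-- The exceptional locus of a chart is an affine line over the residue field. -/
theorem exists_chart_quot [IsRegularLocalRing A] (hA : ringKrullDim A = 2) {a c : A}
    (h : Ideal.span ({a, c} : Set A) = maximalIdeal A) :
    ∃ θ : BlowUp.affineAlgebra A (maximalIdeal A) a →+* MvPolynomial (Fin 1) (ResidueField A),
      Function.Surjective θ ∧ RingHom.ker θ = Ideal.span {algebraMap A _ a} ∧
        (∀ x, θ (algebraMap A _ x) = MvPolynomial.C (residue A x)) ∧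
        ∀ c', algebraMap A _ a * c' = algebraMap A _ c → θ c' = MvPolynomial.X 0 := by
  let v : Fin 2 → A := ![a, c]
  have hv : Ideal.span (Set.range v) = maximalIdeal A := by
    rw [← h]
    congr 1
    ext x
    simp [v, or_comm, eq_comm]
  obtain ⟨μ, hμ⟩ := KoszulBlow.exists_hom (t := 1) v
  suffices ∃ θ : BlowUp.affineAlgebra A (Ideal.span (Set.range v)) (v 0) →+*
      MvPolynomial (Fin 1) (ResidueField A),
      Function.Surjective θ ∧ RingHom.ker θ = Ideal.span {algebraMap A _ (v 0)} ∧
        (∀ x, θ (algebraMap A _ x) = MvPolynomial.C (residue A x)) ∧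
        ∀ c', algebraMap A _ (v 0) * c' = algebraMap A _ (v 1) → θ c' = MvPolynomial.X 0 by
    rw [hv] at this
    exact this
  have hsurj := KoszulBlow.surjective v rfl μ hμ
  have hker := KoszulBlow.ker_eq v μ hμ (kR_pair hA h)
  let ψ : MvPolynomial (Fin 1) A →+* MvPolynomial (Fin 1) (ResidueField A) :=
    MvPolynomial.map (residue A)
  have hψk : RingHom.ker ψ = (maximalIdeal A).map MvPolynomial.C := by
    rw [MvPolynomial.ker_map, ker_residue]
  have hle : RingHom.ker μ.toRingHom ≤ RingHom.ker ψ := by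
    rw [show RingHom.ker μ.toRingHom = RingHom.ker μ from rfl, hker, hψk, ← hv, Ideal.map_span]
    refine Ideal.span_le.2 fun x hx => ?_
    obtain ⟨j, rfl⟩ := List.mem_ofFn.1 hx
    have hC : ∀ i, MvPolynomial.C (v i) ∈
        Ideal.span (MvPolynomial.C (σ := Fin 1) '' Set.range v) := fun i =>
      Ideal.subset_span ⟨v i, ⟨i, rfl⟩, rfl⟩
    exact sub_mem (Ideal.mul_mem_right _ _ (hC 0)) (hC j.succ)
  let θ : BlowUp.affineAlgebra A (Ideal.span (Set.range v)) (v 0) →+*
      MvPolynomial (Fin 1) (ResidueField A) :=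
    RingHom.liftOfSurjective μ.toRingHom hsurj ⟨ψ, hle⟩
  have hθ : ∀ p, θ (μ p) = ψ p := fun p =>
    RingHom.liftOfRightInverse_comp_apply _ _ _ ⟨ψ, hle⟩ p
  have hθC : ∀ x, θ (algebraMap A _ x) = MvPolynomial.C (residue A x) := fun x => by
    rw [← μ.commutes x, hθ, MvPolynomial.algebraMap_eq, MvPolynomial.map_C]
  refine ⟨θ, fun q => ?_, le_antisymm (fun y hy => ?_) ?_, hθC, fun c' hc' => ?_⟩
  · obtain ⟨p, hp⟩ := MvPolynomial.map_surjective (residue A) residue_surjective q
    exact ⟨μ p, by rw [hθ]; exact hp⟩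
  · obtain ⟨p, rfl⟩ := hsurj y
    rw [RingHom.mem_ker, hθ, ← RingHom.mem_ker, hψk, ← hv] at hy
    have h2 := Ideal.mem_map_of_mem μ.toRingHom hy
    rw [Ideal.map_map, Ideal.map_span] at h2
    refine Ideal.span_le.2 ?_ h2
    rintro _ ⟨_, ⟨i, rfl⟩, rfl⟩
    show μ (MvPolynomial.C (v i)) ∈ Ideal.span _
    rw [← MvPolynomial.algebraMap_eq, AlgHom.commutes]
    induction i using Fin.cases with
    | zero => exact Ideal.subset_span rfl
    | succ j => exact Ideal.mem_span_singleton'.2 ⟨μ (MvPolynomial.X j), by rw [mul_comm, hμ]⟩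
  · rw [Ideal.span_le, Set.singleton_subset_iff, SetLike.mem_coe, RingHom.mem_ker, hθC,
      (residue_eq_zero_iff (v 0)).2 (hv ▸ Ideal.subset_span ⟨0, rfl⟩), map_zero]
  · have hc : c' = μ (MvPolynomial.X 0) := by
      refine (mul_cancel_left_mem_nonZeroDivisors (FBlow13.affineAlgebra_nzd (v 0))).1 ?_
      rw [hc']
      exact (hμ 0).symm
    rw [hc, hθ, MvPolynomial.map_X]

/-- Away from `a` a chart has the local rings of `A`. -/
theorem isLocalization_atPrime_chart (I : Ideal A) {a : A} (ha : a ∈ I)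
    (P : Ideal (BlowUp.affineAlgebra A I a)) [P.IsPrime] (haP : algebraMap A _ a ∉ P) :
    IsLocalization.AtPrime (Localization.AtPrime P) (P.comap (algebraMap A (BlowUp.affineAlgebra A I a))) := by
  have hT : ∀ x : A, algebraMap A (Localization.AtPrime P) x =
      algebraMap (BlowUp.affineAlgebra A I a) _ (algebraMap A _ x) :=
    IsScalarTower.algebraMap_apply _ _ _
  -- every element of the chart is a fraction of elements of `A`
  have hfr : ∀ y : BlowUp.affineAlgebra A I a, ∃ (n : ℕ) (y' : A),
      y * algebraMap A _ (a ^ n) = algebraMap A _ y' := fun y => by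
    obtain ⟨n, y', -, hy⟩ := BlowFlat.exists_frac ha y
    refine ⟨n, y', Subtype.ext ?_⟩
    rw [Subalgebra.coe_mul, Subalgebra.coe_algebraMap, Subalgebra.coe_algebraMap, hy]
    exact IsLocalization.mk'_spec (Localization.Away a) y' (Submonoid.pow a n)
  have hanP : ∀ n : ℕ, algebraMap A (BlowUp.affineAlgebra A I a) (a ^ n) ∉ P := fun n h =>
    haP (Ideal.IsPrime.mem_of_pow_mem ‹_› n (by rwa [← map_pow]))
  refine (isLocalization_iff _ _).2 ⟨fun s => ?_, fun z => ?_, fun {x y} hxy => ?_⟩
  · rw [hT]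
    exact IsLocalization.map_units (M := P.primeCompl) (Localization.AtPrime P) ⟨_, s.2⟩
  · obtain ⟨⟨y, t⟩, hz⟩ := IsLocalization.surj P.primeCompl z
    obtain ⟨n, y', hy⟩ := hfr y
    obtain ⟨m, t', ht⟩ := hfr t
    have ht' : algebraMap A (BlowUp.affineAlgebra A I a) (t' * a ^ n) ∉ P := by
      rw [map_mul, ← ht]
      exact fun h => ((Ideal.IsPrime.mem_or_mem ‹_› h).resolve_right (hanP n)) |> fun h =>
        ((Ideal.IsPrime.mem_or_mem ‹_› h).elim t.2 (hanP m))
    refine ⟨⟨y' * a ^ m, ⟨t' * a ^ n, ht'⟩⟩, ?_⟩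
    simp only [hT, map_mul]
    rw [← hy, ← ht]
    simp only [map_mul] at hz ⊢
    rw [← hz]
    ring
  · rw [hT, hT] at hxy
    obtain ⟨⟨w, hw⟩, he⟩ := (IsLocalization.eq_iff_exists P.primeCompl _).1 hxy
    obtain ⟨m, w', hw'⟩ := hfr w
    have hw'' : w' ∉ P.comap (algebraMap A (BlowUp.affineAlgebra A I a)) := fun h =>
      (Ideal.IsPrime.mem_or_mem ‹_› (hw' ▸ h : w * algebraMap A _ (a ^ m) ∈ P)).elim hw (hanP m)
    have h1 : algebraMap A (BlowUp.affineAlgebra A I a) (w' * x) = algebraMap A _ (w' * y) := by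
      simp only [map_mul, ← hw']
      dsimp only at he
      rw [mul_right_comm, he, mul_right_comm]
    have h2 := congrArg Subtype.val h1
    rw [Subalgebra.coe_algebraMap, Subalgebra.coe_algebraMap] at h2
    obtain ⟨⟨-, k, rfl⟩, hk⟩ := (IsLocalization.eq_iff_exists (Submonoid.powers a) _).1 h2
    refine ⟨⟨a ^ k * w', fun h => ?_⟩, by simpa [mul_assoc] using hk⟩
    rw [SetLike.mem_coe, Ideal.mem_comap, map_mul] at h
    exact (Ideal.IsPrime.mem_or_mem ‹_› h).elim (hanP k) hw''

/-- A prime containing a nonzerodivisor with regular quotient ring has a regular local ring. -/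
theorem regular_atPrime_of_quot {C D : Type u} [CommRing C] [CommRing D] [IsNoetherianRing C]
    [IsRegularRing D] (θ : C →+* D) (hθ : Function.Surjective θ) {α : C}
    (hker : RingHom.ker θ = Ideal.span {α}) (hnzd : α ∈ nonZeroDivisors C) (P : Ideal C) [P.IsPrime]
    (haP : α ∈ P) : IsRegularLocalRing (Localization.AtPrime P) := by
  let L := Localization.AtPrime P
  let Q := P.map θ
  have hkerP : RingHom.ker θ ≤ P := by
    rw [hker, Ideal.span_le, Set.singleton_subset_iff]
    exact haP
  haveI : Q.IsPrime := Ideal.map_isPrime_of_surjective hθ hkerP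
  have hQ : P = Q.comap θ := by
    rw [Ideal.comap_map_of_surjective θ hθ, ← RingHom.ker_eq_comap_bot, sup_eq_left.2 hkerP]
  let φ : L →+* Localization.AtPrime Q := Localization.localRingHom P Q θ hQ
  have hφ : ∀ z, φ (algebraMap C L z) = algebraMap _ _ (θ z) := fun z =>
    Localization.localRingHom_to_map P Q θ hQ z
  have hφs : Function.Surjective φ := fun w => by
    obtain ⟨⟨y, t⟩, rfl⟩ := IsLocalization.mk'_surjective Q.primeCompl w
    obtain ⟨y, rfl⟩ := hθ y
    obtain ⟨t, ht⟩ := t
    obtain ⟨t, rfl⟩ := hθ t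
    exact ⟨IsLocalization.mk' L y (⟨t, fun h => ht (by rwa [hQ] at h)⟩ : P.primeCompl),
      Localization.localRingHom_mk' P Q θ hQ y _⟩
  let x : L := algebraMap C L α
  have hφk : RingHom.ker φ = Ideal.span {x} := by
    refine le_antisymm (fun z hz => ?_) ?_
    · obtain ⟨⟨y, t⟩, rfl⟩ := IsLocalization.mk'_surjective P.primeCompl z
      rw [RingHom.mem_ker, Localization.localRingHom_mk', IsLocalization.mk'_eq_zero_iff] at hz
      obtain ⟨⟨w, hw⟩, hwy⟩ := hz
      obtain ⟨w, rfl⟩ := hθ w
      have hmem : w * y ∈ RingHom.ker θ := by rw [RingHom.mem_ker, map_mul]; exact hwy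
      rw [hker, Ideal.mem_span_singleton'] at hmem
      obtain ⟨r, hr⟩ := hmem
      have hwP : w ∈ P.primeCompl := fun h => hw (by rwa [hQ] at h)
      refine Ideal.mem_span_singleton'.2 ⟨IsLocalization.mk' L r (⟨w, hwP⟩ * t : P.primeCompl), ?_⟩
      rw [mul_comm, IsLocalization.mul_mk'_eq_mk'_of_mul, IsLocalization.mk'_eq_iff_eq]
      refine congrArg (algebraMap C L) ?_
      simp only [Submonoid.coe_mul]
      linear_combination (t : C) * hr
    · rw [Ideal.span_le, Set.singleton_subset_iff, SetLike.mem_coe, RingHom.mem_ker, hφ,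
        RingHom.mem_ker.1 (show α ∈ RingHom.ker θ from hker ▸ Ideal.subset_span rfl), map_zero]
  haveI : IsRegularLocalRing (L ⧸ Ideal.span ({x} : Set L)) :=
    IsRegularLocalRing.of_ringEquiv
      ((RingHom.quotientKerEquivOfSurjective hφs).symm.trans (Ideal.quotEquivOfEq hφk))
  haveI : IsNoetherianRing L := IsLocalization.isNoetherianRing P.primeCompl _ inferInstance
  exact CAlg1.regular_of_quotient_regular
    ((IsLocalization.AtPrime.to_map_mem_maximal_iff L P α).2 haP)
    (IsLocalization.map_nonZeroDivisors_le P.primeCompl L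
      (Submonoid.mem_map_of_mem _ hnzd))

/-- The local rings of a chart are regular. -/
theorem regular_chart [IsRegularLocalRing A] (hA : ringKrullDim A = 2) {a c : A}
    (h : Ideal.span ({a, c} : Set A) = maximalIdeal A)
    (P : Ideal (BlowUp.affineAlgebra A (maximalIdeal A) a)) [P.IsPrime] :
    IsRegularLocalRing (Localization.AtPrime P) := by
  have ha : a ∈ maximalIdeal A := h ▸ Ideal.subset_span (by simp)
  let C := BlowUp.affineAlgebra A (maximalIdeal A) a
  let α : C := algebraMap A C a
  by_cases haP : α ∈ P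
  swap
  · haveI := isLocalization_atPrime_chart _ ha P haP
    haveI := CAlg1.regular_localization A (P.comap (algebraMap A C))
    exact IsRegularLocalRing.of_ringEquiv
      (IsLocalization.algEquiv (P.comap (algebraMap A C)).primeCompl
        (Localization.AtPrime (P.comap (algebraMap A C))) (Localization.AtPrime P)).toRingEquiv
  obtain ⟨θ, hθ, hker, -, -⟩ := exists_chart_quot hA h
  haveI : IsNoetherianRing C :=
    haveI : Algebra.FiniteType A C :=
      FBlow13.affineAlgebra_finiteType a (IsNoetherian.noetherian (maximalIdeal A))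
    Algebra.FiniteType.isNoetherianRing A C
  exact regular_atPrime_of_quot θ hθ hker (FBlow13.affineAlgebra_nzd a) P haP

theorem regular_spec_stalk {C : Type u} [CommRing C]
    (h : ∀ (P : Ideal C) [P.IsPrime], IsRegularLocalRing (Localization.AtPrime P))
    (p : Spec (CommRingCat.of C)) : IsRegularLocalRing ((Spec (CommRingCat.of C)).presheaf.stalk p) := by
  let q : PrimeSpectrum C := p
  haveI := h q.asIdeal
  exact IsRegularLocalRing.of_ringEquiv (IsLocalization.algEquiv q.asIdeal.primeCompl
    (Localization.AtPrime q.asIdeal) ((Spec.structureSheaf C).presheaf.stalk q)).toRingEquiv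

/-- A blow-up of a regular surface point has regular local rings. -/
theorem regular_stalk [IsRegularLocalRing A] (hA : ringKrullDim A = 2) {X : Scheme.{u}}
    (b : X ⟶ Spec (CommRingCat.of A)) (hb : BlowUp.IsBlowUp b (FSch.idealSpec A (maximalIdeal A)))
    (x : X) : IsRegularLocalRing (X.presheaf.stalk x) := by
  obtain ⟨a, c, h⟩ := exists_pair hA
  obtain ⟨a₁, ha₁, hx⟩ := FBlow13.exists_mem_chartOpen_of_span b hb.1 h x
  obtain ⟨c₁, h₁⟩ : ∃ c₁, Ideal.span ({a₁, c₁} : Set A) = maximalIdeal A := by
    rcases ha₁ with rfl | rfl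
    · exact ⟨c, h⟩
    · exact ⟨a, by rw [Set.pair_comm]; exact h⟩
  obtain ⟨e, -⟩ := FBlow13.exists_iso_chartOpen b hb
    (show a₁ ∈ maximalIdeal A from h₁ ▸ Ideal.subset_span (by simp))
  obtain ⟨p, hp⟩ := e.hom.homeomorph.surjective ⟨x, hx⟩
  let D := FBlow13.chartOpen b (maximalIdeal A) a₁
  let j := e.hom ≫ D.ι
  have hjp : j p = x := congrArg Subtype.val hp
  haveI := regular_spec_stalk (fun P _ => regular_chart hA h₁ P) p
  rw [← hjp]
  exact IsRegularLocalRing.of_ringEquiv (asIso (j.stalkMap p)).commRingCatIsoToRingEquiv.symm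

/-- A nonempty blow-up of the spectrum of a domain is irreducible. -/
theorem irreducibleSpace_blowUp [IsDomain A] (I : Ideal A) {X : Scheme.{u}} [Nonempty X]
    (b : X ⟶ Spec (CommRingCat.of A)) (hb : BlowUp.IsBlowUp b (FSch.idealSpec A I)) :
    IrreducibleSpace X := by
  haveI : IsDomain (CommRingCat.of A) := ‹IsDomain A›
  have hbij := S1681.result _ b hb
  let S := Spec (CommRingCat.of A)
  have hmaxS : ∀ s : S, (∀ t : S, t ⤳ s → t = s) → s = genericPoint S := fun s hs =>
    (hs _ ((genericPoint_spec S).specializes trivial)).symm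
  have hgenX : ∀ z : X, ∃ g : X, (∀ t : X, t ⤳ g → t = g) ∧ g ⤳ z := by
    intro z
    obtain ⟨g, hg⟩ := QuasiSober.sober (isIrreducible_irreducibleComponent (x := z)) isClosed_irreducibleComponent
    refine ⟨g, fun t ht => ?_, hg.specializes mem_irreducibleComponent⟩
    have hsub : irreducibleComponent z ⊆ closure {t} := by
      rw [← hg.def]
      exact ht.closure_subset
    have heq := (irreducibleComponent_mem_irreducibleComponents z).eq_of_ge isIrreducible_singleton.closure hsub
    exact IsGenericPoint.eq (show IsGenericPoint t (irreducibleComponent z) from heq) hg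
  obtain ⟨z₀⟩ := ‹Nonempty X›
  obtain ⟨g₀, hg₀, -⟩ := hgenX z₀
  have huniq : ∀ g : X, (∀ t : X, t ⤳ g → t = g) → g = g₀ := fun g hg =>
    hbij.2.1 hg hg₀ ((hmaxS _ (hbij.1 hg).1).trans (hmaxS _ (hbij.1 hg₀).1).symm)
  have : closure ({g₀} : Set X) = Set.univ := Set.eq_univ_of_forall fun z => by
    obtain ⟨g, hg, hgz⟩ := hgenX z
    rw [huniq g hg] at hgz
    exact hgz.mem_closure
  exact (irreducibleSpace_def X).2 (show IsIrreducible (Set.univ : Set X) from this ▸ isIrreducible_singleton.closure)

/-- A blow-up of a regular surface point is irreducible. -/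
theorem irreducibleSpace [IsRegularLocalRing A] (hA : ringKrullDim A = 2) {X : Scheme.{u}}
    (b : X ⟶ Spec (CommRingCat.of A)) (hb : BlowUp.IsBlowUp b (FSch.idealSpec A (maximalIdeal A))) :
    IrreducibleSpace X := by
  haveI := CAlg1.isDomain_regular A
  obtain ⟨a, c, h⟩ := exists_pair hA
  obtain ⟨θ, -, -, -⟩ := exists_chart_quot hA h
  obtain ⟨e, -⟩ := FBlow13.exists_iso_chartOpen b hb
    (show a ∈ maximalIdeal A from h ▸ Ideal.subset_span (by simp))
  haveI : Nontrivial (BlowUp.affineAlgebra A (maximalIdeal A) a) := θ.domain_nontrivial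
  haveI : Nonempty X :=
    ⟨(e.hom ≫ (FBlow13.chartOpen b (maximalIdeal A) a).ι) (Classical.arbitrary (PrimeSpectrum _))⟩
  exact irreducibleSpace_blowUp _ b hb

end Groth.Agent.Res23.BlowPoint
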