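import Groth.Agent.RegImm10.BlowModel
import Groth.Agent.NagaNorm57.Scheme
import Groth.Agent.Props58.Nagata
import Groth.Agent.CAlg1.NagataTheorem
import Groth.Agent.VarNorm.Sections

/-!
Blow-ups of locally Noetherian schemes are proper; Nagata along morphisms locally of finite type.
-/

set_option autoImplicit false
universe u
open CategoryTheory CategoryTheory.Limits AlgebraicGeometry

namespace Groth.Agent.Res23

/-- Blow-ups of locally Noetherian schemes are proper. -/
theorem isProper_of_isBlowUp {X X' : Scheme.{u}} [IsLocallyNoetherian X] {I : X.IdealSheafData} {b : X' ⟶ X}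
    (hb : BlowUp.IsBlowUp b I) : IsProper b :=
  RegImm10.BlowModel.isProper_of_isBlowUp
    (fun U => haveI := IsLocallyNoetherian.component_noetherian U; IsNoetherian.noetherian _) hb

/-- Nagata goes up along morphisms locally of finite type. -/
theorem isNagata_of_lft {Y X : Scheme.{u}} (f : Y ⟶ X) [LocallyOfFiniteType f]
    (hX : ∀ U : X.affineOpens, CAlg.IsNagata Γ(X, U.1)) (V : Y.affineOpens) : CAlg.IsNagata Γ(Y, V.1) := by
  have hcov : ∀ u : Y, ∃ A : Y.affineOpens, u ∈ A.1 ∧ CAlg.IsNagata Γ(Y, A.1) := fun u => by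
    obtain ⟨B, hB, huB, -⟩ := exists_isAffineOpen_mem_and_subset (x := f u) (U := ⊤) trivial
    obtain ⟨A, hA, huA, hAB⟩ := exists_isAffineOpen_mem_and_subset (x := u) (U := f ⁻¹ᵁ B) huB
    letI := (f.appLE B A hAB).hom.toAlgebra
    haveI : Algebra.FiniteType Γ(X, B) Γ(Y, A) :=
      RingHom.finiteType_algebraMap.1 (f.finiteType_appLE hB hA hAB)
    exact ⟨⟨A, hA⟩, huA, CAlg1.Nag.isNagata_of_finiteType (R := Γ(X, B)) (hX ⟨B, hB⟩)⟩
  choose A hA hN using hcov
  exact Props58.isNagata_affineOpen A
    (top_le_iff.1 fun u _ => TopologicalSpace.Opens.mem_iSup.2 ⟨u, hA u⟩) hN V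

/-- The normalization of an integral Nagata scheme is finite over it. -/
theorem isFinite_normalizationι (X : Scheme.{u}) [IsIntegral X]
    [QuasiCompact (X.fromSpecStalk (genericPoint X))] [QuasiSeparated (X.fromSpecStalk (genericPoint X))]
    (hX : ∀ U : X.affineOpens, CAlg.IsNagata Γ(X, U.1)) : IsFinite (Curv2.normalizationι X) := by
  refine VarNorm.isFinite_normalizationι X fun U hU hne => ?_
  have := functionField_isFractionRing_of_isAffineOpen X U hU
  haveI : Algebra.EssFiniteType Γ(X, U) X.functionField :=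
    Algebra.EssFiniteType.of_isLocalization X.functionField (nonZeroDivisors Γ(X, U))
  exact NagaNorm57.finite_integralClosure_field (R := Γ(X, U)) (S := X.functionField) (hX ⟨U, hU⟩)

end Groth.Agent.Res23
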