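import Groth.Agent.Res23.BlowPoint
import Groth.Agent.RegImm10.BlowCech.Push
import Groth.Agent.RegImm10.StalkRegular
import Groth.Agent.Div89.BlowUp
import Groth.Agent.Div89.Comap
import Groth.Agent.FlatMor67.GenericFibre
import Groth.Agent.AbSch7.SmoothFib

/-!
The fibre of the blow-up of a regular surface point: irreducible, of dimension one; direct image of
the structure sheaf.
-/

set_option autoImplicit false
set_option linter.style.haveILetI false
set_option backward.isDefEq.respectTransparency false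

noncomputable section

universe u

open CategoryTheory CategoryTheory.Limits AlgebraicGeometry IsLocalRing

namespace Groth.Agent.Res23.BlowPointFibre

/-- Nonzero primes of a line are maximal. -/
theorem isMaximal_line {k : Type u} [Field k] (p : Ideal (MvPolynomial (Fin 1) k)) (hp : p.IsPrime)
    (h : p ≠ ⊥) : p.IsMaximal := by
  haveI : Ring.KrullDimLE 1 (MvPolynomial (Fin 1) k) := by
    rw [Ring.krullDimLE_iff, MvPolynomial.ringKrullDim_of_isNoetherianRing, ringKrullDim_eq_zero_of_field]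
    simp
  exact hp.isMaximal_of_ne_bot h

section Local

variable {A : Type u} [CommRing A] [IsRegularLocalRing A] {X : Scheme.{u}}
  (b : X ⟶ Spec (CommRingCat.of A))

/-- The line in the closed fibre of a chart. -/
theorem exists_line (hA : ringKrullDim A = 2)
    (hb : BlowUp.IsBlowUp b (FSch.idealSpec A (maximalIdeal A))) {a c : A}
    (h : Ideal.span ({a, c} : Set A) = maximalIdeal A) :
    ∃ L : Spec (CommRingCat.of (MvPolynomial (Fin 1) (ResidueField A))) ⟶ X,
      Topology.IsInducing L ∧ Function.Injective L ∧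
      Set.range L = b ⁻¹' {closedPoint A} ∩ (FBlow13.chartOpen b (maximalIdeal A) a : Set X) ∧
      L (⟨⊥, Ideal.isPrime_bot⟩ : PrimeSpectrum _) ∈ FBlow13.chartOpen b (maximalIdeal A) c := by
  have ha : a ∈ maximalIdeal A := h ▸ Ideal.subset_span (by simp)
  have hc : c ∈ maximalIdeal A := h ▸ Ideal.subset_span (by simp)
  obtain ⟨θ, hθ, hker, -, hθX⟩ := BlowPoint.exists_chart_quot hA h
  obtain ⟨e, he⟩ := FBlow13.exists_iso_chartOpen b hb ha
  let C := BlowUp.affineAlgebra A (maximalIdeal A) a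
  let D := FBlow13.chartOpen b (maximalIdeal A) a
  let j : Spec (CommRingCat.of C) ⟶ X := e.hom ≫ D.ι
  have hjb : j ≫ b = FBlow13.chartMor A (maximalIdeal A) a := by rw [← he]; simp only [j, D, Category.assoc]
  let i : Spec (CommRingCat.of (MvPolynomial (Fin 1) (ResidueField A))) ⟶ Spec (CommRingCat.of C) :=
    Spec.map (CommRingCat.ofHom θ)
  haveI : IsClosedImmersion i := IsClosedImmersion.spec_of_surjective _ hθ
  have hemb : Topology.IsEmbedding (i ≫ j) :=
    j.isOpenEmbedding.isEmbedding.comp i.isClosedEmbedding.isEmbedding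
  have hjr : Set.range j = (D : Set X) := by
    show Set.range (e.hom ≫ D.ι) = _
    rw [Scheme.Hom.comp_base, TopCat.coe_comp, Set.range_comp,
      show Set.range e.hom = Set.univ from e.hom.homeomorph.surjective.range_eq,
      Set.image_univ, Scheme.Opens.range_ι]
  have hmC : (maximalIdeal A).map (algebraMap A C) = Ideal.span {algebraMap A C a} := by
    refine le_antisymm (Ideal.map_le_iff_le_comap.mpr fun y hy => ?_) ?_
    · obtain ⟨d, hd⟩ := FBlow13.affineAlgebra_div (a := a) hy
      exact Ideal.mem_span_singleton'.mpr ⟨d, hd.symm⟩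
    · rw [Ideal.span_le, Set.singleton_subset_iff]; exact Ideal.mem_map_of_mem _ ha
  have hfib : ∀ p : PrimeSpectrum C, b (j p) = closedPoint A ↔ RingHom.ker θ ≤ p.asIdeal := by
    intro p
    have hbp : b (j p) = PrimeSpectrum.comap (algebraMap A C) p := by
      rw [← Scheme.Hom.comp_apply, hjb]
      rfl
    rw [hbp, hker, ← hmC, Ideal.map_le_iff_le_comap]
    refine ⟨fun hh => (congrArg PrimeSpectrum.asIdeal hh).ge, fun hh => PrimeSpectrum.ext ?_⟩
    exact ((maximalIdeal.isMaximal A).eq_of_le (p.2.comap (algebraMap A C)).ne_top hh).symm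
  refine ⟨i ≫ j, hemb.isInducing, hemb.injective, ?_, ?_⟩
  · ext x
    constructor
    · rintro ⟨q, rfl⟩
      refine ⟨(hfib (i q)).2 fun z hz => ?_, hjr.le ⟨_, rfl⟩⟩
      show θ z ∈ (q : PrimeSpectrum _).asIdeal
      rw [RingHom.mem_ker.1 hz]
      exact zero_mem _
    · rintro ⟨hxb, hxD⟩
      obtain ⟨p, rfl⟩ := hjr.ge hxD
      obtain ⟨q, hq⟩ : p ∈ Set.range (PrimeSpectrum.comap θ) := by
        rw [range_comap_of_surjective _ _ hθ, PrimeSpectrum.mem_zeroLocus]
        exact (hfib p).1 hxb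
      exact ⟨q, congrArg j hq⟩
  · obtain ⟨c', hc'⟩ := FBlow13.affineAlgebra_div (a := a) hc
    have hc'' : algebraMap A C a * c' = algebraMap A C c := by rw [mul_comm]; exact hc'.symm
    let P₀ : PrimeSpectrum C :=
      PrimeSpectrum.comap θ (⟨⊥, Ideal.isPrime_bot⟩ : PrimeSpectrum (MvPolynomial (Fin 1) (ResidueField A)))
    have hc'P : P₀ ∈ PrimeSpectrum.basicOpen c' := fun hmem => by
      have h0 : θ c' = 0 := hmem
      rw [hθX c' hc''] at h0
      exact MvPolynomial.X_ne_zero 0 h0
    let C' := Localization.Away c'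
    let l : Spec (CommRingCat.of C') ⟶ Spec (CommRingCat.of C) :=
      Spec.map (CommRingCat.ofHom (algebraMap C C'))
    obtain ⟨z, hz⟩ : P₀ ∈ Set.range (PrimeSpectrum.comap (algebraMap C C')) := by
      rw [PrimeSpectrum.localization_away_comap_range C' c']
      exact hc'P
    have hk : FBlow13.ChartPred A (maximalIdeal A) c _ ((l ≫ j) ≫ b) := by
      rw [FBlow13.chartPred_iff_of_isAffine]
      have hφ : ∀ x, ((Scheme.ΓSpecIso (CommRingCat.of A)).inv ≫ (((l ≫ j) ≫ b)).appTop) x =
          (Scheme.ΓSpecIso (CommRingCat.of C')).inv (algebraMap A C' x) := fun x => by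
        have e1 : (l ≫ j) ≫ b = Spec.map (CommRingCat.ofHom (algebraMap A C')) := by
          rw [Category.assoc, hjb]
          show Spec.map _ ≫ Spec.map _ = _
          rw [← Spec.map_comp, ← CommRingCat.ofHom_comp, ← IsScalarTower.algebraMap_eq]
        rw [e1, ← Scheme.ΓSpecIso_inv_naturality]
        rfl
      have hu : IsUnit (algebraMap C C' c') := IsLocalization.Away.algebraMap_isUnit c'
      have hcC : algebraMap A C' c = algebraMap A C' a * algebraMap C C' c' := by
        rw [IsScalarTower.algebraMap_apply A C C', IsScalarTower.algebraMap_apply A C C' a, ← map_mul, hc'']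
      refine ⟨?_, fun x hx => ?_⟩
      · rw [hφ, hcC]
        refine (MulEquivClass.map_nonZeroDivisors
          (Scheme.ΓSpecIso (CommRingCat.of C')).commRingCatIsoToRingEquiv.symm) ▸
            Submonoid.mem_map_of_mem _ (mul_mem ?_ hu.mem_nonZeroDivisors)
        rw [IsScalarTower.algebraMap_apply A C C' a]
        exact IsLocalization.map_nonZeroDivisors_le (Submonoid.powers c') C'
          (Submonoid.mem_map_of_mem _ (FBlow13.affineAlgebra_nzd a))
      · rw [hφ, hφ]
        refine map_dvd _ ?_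
        obtain ⟨d, hd⟩ := FBlow13.affineAlgebra_div (a := a) hx
        rw [hcC, hu.mul_right_dvd]
        exact ⟨algebraMap C C' d, by
          rw [IsScalarTower.algebraMap_apply A C C' x, hd, map_mul, mul_comm,
            ← IsScalarTower.algebraMap_apply]⟩
    have := FBlow13.range_subset_chartOpen b hb.1 hc (l ≫ j) hk z
    rwa [Scheme.Hom.comp_apply, show l z = P₀ from hz] at this

/-- The closed fibre is irreducible of dimension one. -/
theorem exists_generic_closedFibre (hA : ringKrullDim A = 2)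
    (hb : BlowUp.IsBlowUp b (FSch.idealSpec A (maximalIdeal A))) :
    ∃ η : X, b η = closedPoint A ∧ (∀ x, b x = closedPoint A → η ⤳ x) ∧
      ∀ x, b x = closedPoint A → x ≠ η → ∀ v, x ⤳ v → v = x := by
  obtain ⟨a, c, h⟩ := BlowPoint.exists_pair hA
  have h' : Ideal.span ({c, a} : Set A) = maximalIdeal A := by rw [Set.pair_comm]; exact h
  obtain ⟨L, hL, hLinj, hLr, hLc⟩ := exists_line b hA hb h
  obtain ⟨L', hL', hLinj', hLr', hLc'⟩ := exists_line b hA hb h'
  let o : PrimeSpectrum (MvPolynomial (Fin 1) (ResidueField A)) := ⟨⊥, Ideal.isPrime_bot⟩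
  have hbot : ∀ q : PrimeSpectrum (MvPolynomial (Fin 1) (ResidueField A)), o ⤳ q := fun q =>
    (PrimeSpectrum.le_iff_specializes _ _).1 bot_le
  have hη : L o = L' o := by
    obtain ⟨q, hq⟩ : L o ∈ Set.range L' := hLr'.ge ⟨(hLr.le ⟨o, rfl⟩).1, hLc⟩
    obtain ⟨q', hq'⟩ : L' o ∈ Set.range L := hLr.ge ⟨(hLr'.le ⟨o, rfl⟩).1, hLc'⟩
    refine Specializes.antisymm ?_ ?_ |>.eq
    · rw [← hq']; exact (hbot q').map L.continuous
    · rw [← hq]; exact (hbot q).map L'.continuous
  have hcov : ∀ x, b x = closedPoint A → x ∈ Set.range L ∨ x ∈ Set.range L' := fun x hx => by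
    obtain ⟨a₁, ha₁, hxD⟩ := FBlow13.exists_mem_chartOpen_of_span b hb.1 h x
    rcases ha₁ with rfl | rfl
    · exact Or.inl (hLr.ge ⟨hx, hxD⟩)
    · exact Or.inr (hLr'.ge ⟨hx, hxD⟩)
  refine ⟨L o, (hLr.le ⟨o, rfl⟩).1, fun x hx => ?_, fun x hx hne v hv => ?_⟩
  · rcases hcov x hx with ⟨q, rfl⟩ | ⟨q, rfl⟩
    · exact (hbot q).map L.continuous
    · rw [hη]; exact (hbot q).map L'.continuous
  · have hbv : b v = closedPoint A :=
      ((specializes_closedPoint _).antisymm (hx ▸ hv.map b.continuous)).eq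
    have key : ∀ (M : Spec (CommRingCat.of (MvPolynomial (Fin 1) (ResidueField A))) ⟶ X) (a₁ : A),
        Topology.IsInducing M →
        Set.range M = b ⁻¹' {closedPoint A} ∩ (FBlow13.chartOpen b (maximalIdeal A) a₁ : Set X) →
        M o = L o → v ∈ Set.range M → v = x := by
      intro M a₁ hM hMr hMo hvM
      obtain ⟨q, rfl⟩ := hvM
      obtain ⟨p, rfl⟩ : x ∈ Set.range M := hMr.ge ⟨hx, hv.mem_open (FBlow13.chartOpen b _ a₁).2 (hMr.le ⟨q, rfl⟩).2⟩
      have hle : (p : PrimeSpectrum _).asIdeal ≤ (q : PrimeSpectrum _).asIdeal :=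
        (PrimeSpectrum.le_iff_specializes _ _).2 (hM.specializes_iff.1 hv)
      have hp0 : (p : PrimeSpectrum _).asIdeal ≠ ⊥ := fun hp => hne (by
        rw [← hMo]; exact congrArg M (PrimeSpectrum.ext hp))
      have hmax : (p : PrimeSpectrum _).asIdeal.IsMaximal :=
        isMaximal_line _ (p : PrimeSpectrum _).isPrime hp0
      exact congrArg M (PrimeSpectrum.ext (hmax.eq_of_le q.2.ne_top hle).symm)
    rcases hcov v hbv with hv' | hv'
    · exact key L a hL hLr rfl hv'
    · exact key L' c hL' hLr' hη.symm hv'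

end Local

section Global

variable {T X : Scheme.{u}} {y : T} (hy : IsClosed ({y} : Set T)) {b : X ⟶ T}

theorem stalkIdeal_point : Div89.stalkIdeal (Scheme.IdealSheafData.vanishingIdeal ⟨{y}, hy⟩) y =
    maximalIdeal (T.presheaf.stalk y) := by
  obtain ⟨U, hyU⟩ := Div89.exists_affine_mem y
  letI := T.presheaf.algebra_section_stalk ⟨y, hyU⟩
  haveI := U.2.isLocalization_stalk ⟨y, hyU⟩
  rw [Div89.stalkIdeal_eq _ U y hyU]
  have hI : (Scheme.IdealSheafData.vanishingIdeal ⟨{y}, hy⟩).ideal U = (U.2.primeIdealOf ⟨y, hyU⟩).asIdeal := by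
    rw [Scheme.IdealSheafData.vanishingIdeal_ideal]
    have hpre : U.2.fromSpec ⁻¹' ({y} : Set T) = {U.2.primeIdealOf ⟨y, hyU⟩} := by
      ext q
      rw [Set.mem_preimage, Set.mem_singleton_iff, Set.mem_singleton_iff]
      refine ⟨fun hq => U.2.fromSpec.isOpenEmbedding.injective ?_, fun hq => ?_⟩
      · rw [hq]; exact (U.2.fromSpec_primeIdealOf ⟨y, hyU⟩).symm
      · rw [hq]; exact U.2.fromSpec_primeIdealOf ⟨y, hyU⟩
    exact (congrArg PrimeSpectrum.vanishingIdeal hpre).trans (PrimeSpectrum.vanishingIdeal_singleton _)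
  rw [hI]
  exact IsLocalization.AtPrime.map_eq_maximalIdeal _ _

theorem mem_support_point {x : T} :
    x ∈ (Scheme.IdealSheafData.vanishingIdeal ⟨{y}, hy⟩).support ↔ x = y := Iff.rfl

theorem comap_fromSpecStalk_point :
    (Scheme.IdealSheafData.vanishingIdeal ⟨{y}, hy⟩).comap (T.fromSpecStalk y) =
      FSch.idealSpec (T.presheaf.stalk y) (maximalIdeal (T.presheaf.stalk y)) := by
  obtain ⟨U, hyU⟩ := Div89.exists_affine_mem y
  refine Scheme.IdealSheafData.ext_of_isAffine ?_
  have hle : (⊤ : (Spec (T.presheaf.stalk y)).Opens) ≤ T.fromSpecStalk y ⁻¹ᵁ U.1 := fun q _ => by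
    have hq : T.fromSpecStalk y q ∈ Set.range (T.fromSpecStalk y) := ⟨q, rfl⟩
    rw [Scheme.range_fromSpecStalk] at hq
    exact hq.mem_open U.1.2 hyU
  rw [MP99.ideal_comap _ _ U ⟨⊤, isAffineOpen_top _⟩ hle, FBlow13.idealSpec_ideal_top,
    ← stalkIdeal_point hy, Div89.stalkIdeal_eq _ U y hyU, Ideal.map_map, ← CommRingCat.hom_comp]
  congr 2
  rw [Scheme.Hom.appLE, Scheme.fromSpecStalk_app hyU, Category.assoc, Category.assoc, ← Functor.map_comp]
  congr 1

/-- The fibre of a blow-up of a regular surface point is irreducible of dimension one. -/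
theorem exists_generic_fibre [IsLocallyNoetherian T] (hreg : IsRegularLocalRing (T.presheaf.stalk y))
    (hdim : ringKrullDim (T.presheaf.stalk y) = 2)
    (hb : BlowUp.IsBlowUp b (Scheme.IdealSheafData.vanishingIdeal ⟨{y}, hy⟩)) :
    ∃ η : X, b η = y ∧ (∀ x, b x = y → η ⤳ x) ∧ ∀ x, b x = y → x ≠ η → ∀ v, x ⤳ v → v = x := by
  haveI := hreg
  let g := T.fromSpecStalk y
  haveI : Flat g := FlatMor67.flat_fromSpecStalk y
  have hb' := Div89.isBlowUp_flat_baseChange g hb
  rw [comap_fromSpecStalk_point hy] at hb'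
  obtain ⟨η, hη, hgen, hmax⟩ := exists_generic_closedFibre (A := T.presheaf.stalk y) (pullback.fst g b) hdim hb'
  let q := pullback.snd g b
  have hsq : ∀ z, b (q z) = g (pullback.fst g b z) := fun z => by
    rw [← Scheme.Hom.comp_apply, ← Scheme.Hom.comp_apply, pullback.condition]
  have hcl : ∀ z, b (q z) = y ↔ pullback.fst g b z = closedPoint _ := fun z => by
    rw [hsq]
    refine ⟨fun hh => g.isEmbedding.injective (hh.trans Scheme.fromSpecStalk_closedPoint.symm), fun hh => ?_⟩
    rw [hh]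
    exact Scheme.fromSpecStalk_closedPoint
  have hsurj : ∀ x, b x = y → ∃ z, q z = x := fun x hx => by
    obtain ⟨z, -, hz⟩ := Scheme.Pullback.exists_preimage_pullback (f := g) (g := b) (closedPoint _) x
      (Scheme.fromSpecStalk_closedPoint.trans hx.symm)
    exact ⟨z, hz⟩
  refine ⟨q η, (hcl η).2 hη, fun x hx => ?_, fun x hx hne v hv => ?_⟩
  · obtain ⟨z, rfl⟩ := hsurj x hx
    exact (hgen z ((hcl z).1 hx)).map q.continuous
  · have hv' : b v = y := by
      have : b x ⤳ b v := hv.map b.continuous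
      rw [hx] at this
      simpa using this.mem_closed hy rfl
    obtain ⟨z, rfl⟩ := hsurj x hx
    obtain ⟨w, rfl⟩ := hsurj v hv'
    exact congrArg q (hmax z ((hcl z).1 hx) (fun hh => hne (congrArg q hh)) w
      ((q.isEmbedding.isInducing.specializes_iff).1 hv))

/-- A closed irreducible subset of the fibre with two points is the whole fibre. -/
theorem fibre_subset_of_nontrivial [IsLocallyNoetherian T] (hreg : IsRegularLocalRing (T.presheaf.stalk y))
    (hdim : ringKrullDim (T.presheaf.stalk y) = 2)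
    (hb : BlowUp.IsBlowUp b (Scheme.IdealSheafData.vanishingIdeal ⟨{y}, hy⟩)) {Z : Set X}
    (hZ : IsIrreducible Z) (hZc : IsClosed Z) (hZy : ∀ x ∈ Z, b x = y) (hnt : Z.Nontrivial) :
    ∀ x, b x = y → x ∈ Z := by
  obtain ⟨η, -, hgen, hmax⟩ := exists_generic_fibre hy hreg hdim hb
  obtain ⟨ζ, hζ⟩ := QuasiSober.sober hZ hZc
  have hζη : ζ = η := by
    by_contra hne
    obtain ⟨v, hv, hvne⟩ := hnt.exists_ne ζ
    exact hvne (hmax ζ (hZy ζ hζ.mem) hne v (hζ.specializes hv))
  exact fun x hx => (hgen x hx).mem_closed hZc (hζη ▸ hζ.mem)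

/-- `b_* O = O`. -/
theorem app_bijective [IsLocallyNoetherian T] (hreg : IsRegularLocalRing (T.presheaf.stalk y))
    (hdim : ringKrullDim (T.presheaf.stalk y) = 2)
    (hb : BlowUp.IsBlowUp b (Scheme.IdealSheafData.vanishingIdeal ⟨{y}, hy⟩)) (U : T.Opens) :
    Function.Bijective (b.app U) := by
  haveI := hreg
  refine RegImm10.BlowCech.app_bijective hb (N := 2) one_le_two ?_ U
  refine RegImm10.BlowCech.hasGens_of_support one_le_two fun x hx => ?_
  let I := Scheme.IdealSheafData.vanishingIdeal (X := T) ⟨{y}, hy⟩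
  obtain ⟨z, hz⟩ := (RegImm10.BlowCech.coe_support_ker I.subschemeι).le (by rw [I.ker_subschemeι]; exact hx)
  have hp : I.subschemeι z = y := hz.trans ((mem_support_point hy).1 hx)
  have hst0 : Div89.stalkIdeal I (I.subschemeι z) = maximalIdeal (T.presheaf.stalk (I.subschemeι z)) := by
    rw [hp]
    exact stalkIdeal_point hy
  have hI : RingHom.ker (I.subschemeι.stalkMap z).hom =
      maximalIdeal (T.presheaf.stalk (I.subschemeι z)) := by
    rw [RegImm10.StalkRegular.ker_stalkMap_eq_stalkIdeal, I.ker_subschemeι]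
    exact hst0
  haveI : IsRegularLocalRing (T.presheaf.stalk (I.subschemeι z)) := by rw [hp]; exact hreg
  replace hdim : ringKrullDim (T.presheaf.stalk (I.subschemeι z)) = 2 := by rw [hp]; exact hdim
  obtain ⟨a, c, hac⟩ := BlowPoint.exists_pair hdim
  have hrI : CInt.IsRegularIdeal (RingHom.ker (I.subschemeι.stalkMap z).hom) := by
    refine ⟨[a, c], ?_, ?_⟩
    · refine CAlg1.isRegular_of_isWeaklyRegular (CAlg1.isWeaklyRegular_params _ _ ?_ ?_) ?_
      · rw [← hac, Ideal.ofList]; congr 1; ext; simp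
      · rw [BlowPoint.spanFinrank_eq_two hdim]; rfl
      · intro r hr
        rw [← hac]
        exact Ideal.subset_span (by simpa using hr)
    · rw [hI, ← hac, Ideal.ofList]; congr 1; ext; simp
  obtain ⟨U', hzU, -, rs, hreg', hker⟩ := RegImm10.StalkRegular.isRegularImmersionAt_of_stalk I.subschemeι z hrI
  have hIU : I.ideal U' = Ideal.ofList rs := by rw [← hker, ← Scheme.Hom.ker_apply, I.ker_subschemeι]
  refine ⟨U', hz ▸ hzU, rs, ?_, Koszul19.kR_of_isWeaklyRegular rs hreg'.1, hIU⟩
  have hst : maximalIdeal (T.presheaf.stalk (I.subschemeι z)) =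
      Ideal.ofList (rs.map (T.presheaf.germ U'.1 _ hzU).hom) := by
    rw [← hst0, Div89.stalkIdeal_eq I U' _ hzU, hIU, Ideal.map_ofList]
  classical
  have h2 := BlowPoint.spanFinrank_eq_two hdim
  rw [hst] at h2
  have h3 := Submodule.spanFinrank_span_le_ncard_of_finite (R := T.presheaf.stalk (I.subschemeι z))
    (s := {r | r ∈ rs.map (T.presheaf.germ U'.1 _ hzU).hom}) (List.finite_toSet _)
  refine le_trans (le_of_eq h2.symm) (h3.trans ?_)
  refine le_trans (le_of_eq ?_) ((List.toFinset_card_le (rs.map (T.presheaf.germ U'.1 _ hzU).hom)).trans (List.length_map _).le)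
  rw [← Set.ncard_coe_finset]
  congr 1
  ext r
  simp

theorem surjective [IsLocallyNoetherian T] (hreg : IsRegularLocalRing (T.presheaf.stalk y))
    (hdim : ringKrullDim (T.presheaf.stalk y) = 2)
    (hb : BlowUp.IsBlowUp b (Scheme.IdealSheafData.vanishingIdeal ⟨{y}, hy⟩)) : Function.Surjective b := by
  intro t
  by_cases ht : t = y
  · obtain ⟨η, hη, -⟩ := exists_generic_fibre hy hreg hdim hb
    exact ⟨η, hη.trans ht.symm⟩
  · let U : T.Opens := (Scheme.IdealSheafData.vanishingIdeal (X := T) ⟨{y}, hy⟩).support.compl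
    haveI : IsIso (b ∣_ U) := Div89.isIso_off_center hb
    obtain ⟨w, hw⟩ := (b ∣_ U).homeomorph.surjective ⟨t, fun hh => ht ((mem_support_point hy).1 hh)⟩
    refine ⟨w.1, ?_⟩
    have h' := congrArg Subtype.val (show (b ∣_ U).base w = _ from hw)
    rw [morphismRestrict_base] at h'
    exact h'

theorem injective_off (hb : BlowUp.IsBlowUp b (Scheme.IdealSheafData.vanishingIdeal ⟨{y}, hy⟩))
    {x x' : X} (h : b x = b x') (hne : b x ≠ y) : x = x' := by
  let U : T.Opens := (Scheme.IdealSheafData.vanishingIdeal (X := T) ⟨{y}, hy⟩).support.compl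
  haveI : IsIso (b ∣_ U) := Div89.isIso_off_center hb
  have hxU : b x ∈ U := fun hh => hne ((mem_support_point hy).1 hh)
  let w : (b ⁻¹ᵁ U).toScheme := ⟨x, hxU⟩
  let w' : (b ⁻¹ᵁ U).toScheme := ⟨x', show b x' ∈ U from h ▸ hxU⟩
  have hww : w = w' := (b ∣_ U).isOpenEmbedding.injective <| Subtype.ext <|
    (morphismRestrict_base_coe b U w).trans (h.trans (morphismRestrict_base_coe b U w').symm)
  exact congrArg Subtype.val hww

/-- A morphism collapsing the fibre over the blown up point factors uniquely through the blow-up. -/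
theorem existsUnique_factor [IsLocallyNoetherian T] [IsProper b] (hreg : IsRegularLocalRing (T.presheaf.stalk y))
    (hdim : ringKrullDim (T.presheaf.stalk y) = 2)
    (hb : BlowUp.IsBlowUp b (Scheme.IdealSheafData.vanishingIdeal ⟨{y}, hy⟩))
    {Y : Scheme.{u}} (φ : X ⟶ Y) (y₀ : Y) (hφ : ∀ x, b x = y → φ x = y₀) :
    ∃! ψ : T ⟶ Y, b ≫ ψ = φ := by
  haveI : Surjective b := ⟨surjective hy hreg hdim hb⟩
  have happ : ∀ U : T.Opens, Function.Bijective (b.app U).hom := app_bijective hy hreg hdim hb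
  obtain ⟨k, hk⟩ := AbSch7.exists_factor_of_forall_collapsed b happ b.isClosedMap φ fun t => by
    by_cases ht : t = y
    · exact ⟨y₀, fun x hx => hφ x (hx.trans ht)⟩
    · obtain ⟨x₀, hx₀⟩ := surjective hy hreg hdim hb t
      exact ⟨φ x₀, fun x hx => congrArg φ (injective_off hy hb (hx.trans hx₀.symm) (hx ▸ ht))⟩
  haveI : Epi b := AbSch7.epi_of_app_injective b fun U => (happ U).1
  exact ⟨k, hk, fun k' hk' => (cancel_epi b).1 (hk'.trans hk.symm)⟩

end Global

end Groth.Agent.Res23.BlowPointFibre
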