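import Groth.Prelude.Def_Curv2
import Mathlib.AlgebraicGeometry.Morphisms.Affine
import Mathlib.AlgebraicGeometry.Morphisms.Flat
import Mathlib.RingTheory.AdicCompletion.Algebra
import Mathlib.RingTheory.AdicCompletion.AsTensorProduct
import Mathlib.RingTheory.RegularLocalRing.Defs
import Groth.Agent.CAlg6.CotFlat
import Groth.Agent.Unr55.SmoothStalk
import Groth.Agent.CAlg1.Complete

/-!
Local rings of the base change of a scheme over a local ring to the completion, at points of the
closed fibre: quotients by powers of the maximal ideals agree, regularity agrees.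
-/

set_option autoImplicit false
universe u
open CategoryTheory CategoryTheory.Limits AlgebraicGeometry

namespace Groth.Agent.Res23.BCCompl

/-- A pushout along a map which is surjective modulo `J` with controlled kernel. -/
theorem quot_of_pushout {A B C D : Type u} [CommRing A] [CommRing B] [CommRing C] [CommRing D]
    {φ : A →+* B} {ρ : A →+* D} {β : B →+* C} {δ : D →+* C}
    (h : IsPushout (CommRingCat.ofHom φ) (CommRingCat.ofHom ρ) (CommRingCat.ofHom β) (CommRingCat.ofHom δ))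
    (J : Ideal A) (ev : D →+* A ⧸ J) (hev : ev.comp ρ = Ideal.Quotient.mk J)
    (hker : RingHom.ker ev ≤ J.map ρ) :
    Function.Surjective ((Ideal.Quotient.mk ((J.map φ).map β)).comp β) ∧
      ((J.map φ).map β).comap β ≤ J.map φ := by
  let K := (J.map φ).map β
  let I := J.map φ
  let j : A ⧸ J →+* B ⧸ I := Ideal.quotientMap I φ Ideal.le_comap_map
  have hcomm : β.comp φ = δ.comp ρ := congrArg CommRingCat.Hom.hom h.w
  have hK : (J.map ρ).map δ = K := by
    simp only [K, Ideal.map_map, hcomm]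
  let π : C →+* B ⧸ I := (h.desc (CommRingCat.ofHom (Ideal.Quotient.mk I)) (CommRingCat.ofHom (j.comp ev))
    (by
      ext a
      change Ideal.Quotient.mk I (φ a) = j ((ev.comp ρ) a)
      rw [hev]; rfl)).hom
  have hπ₁ : ∀ b, π (β b) = Ideal.Quotient.mk I b := fun b =>
    congrArg (fun g : CommRingCat.of B ⟶ CommRingCat.of (B ⧸ I) => g b) (h.inl_desc _ _ _)
  have hπ₂ : ∀ d, π (δ d) = j (ev d) := fun d =>
    congrArg (fun g : CommRingCat.of D ⟶ CommRingCat.of (B ⧸ I) => g d) (h.inr_desc _ _ _)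
  let t : B ⧸ I →+* C ⧸ K := Ideal.quotientMap K β Ideal.le_comap_map
  have hd : ∀ d, t (π (δ d)) = Ideal.Quotient.mk K (δ d) := by
    intro d
    obtain ⟨a, ha⟩ := Ideal.Quotient.mk_surjective (ev d)
    have hda : d - ρ a ∈ J.map ρ := by
      refine hker ?_
      rw [RingHom.mem_ker, map_sub, ← ha, ← RingHom.comp_apply ev ρ, hev, sub_self]
    have h1 : δ (d - ρ a) ∈ K := hK ▸ Ideal.mem_map_of_mem δ hda
    rw [hπ₂, ← ha]
    simp only [j, t, Ideal.quotientMap_mk]
    rw [Ideal.Quotient.eq, ← RingHom.comp_apply β φ, hcomm, RingHom.comp_apply, ← neg_mem_iff, neg_sub, ← map_sub]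
    exact h1
  have key : t.comp π = Ideal.Quotient.mk K := by
    have h1 : CommRingCat.ofHom (t.comp π) = CommRingCat.ofHom (Ideal.Quotient.mk K) := by
      apply h.hom_ext
      · ext b
        change t (π (β b)) = Ideal.Quotient.mk K (β b)
        rw [hπ₁]; rfl
      · ext d
        exact hd d
    exact congrArg CommRingCat.Hom.hom h1
  refine ⟨fun z => ?_, fun b hb => ?_⟩
  · obtain ⟨c, rfl⟩ := Ideal.Quotient.mk_surjective z
    obtain ⟨b, hb⟩ := Ideal.Quotient.mk_surjective (π c)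
    refine ⟨b, ?_⟩
    rw [← key, RingHom.comp_apply t π, ← hb]
    change t (π (β b)) = t (Ideal.Quotient.mk I b)
    rw [hπ₁]
  · have hle : K ≤ RingHom.ker π := by
      refine Ideal.map_le_iff_le_comap.2 fun x hx => ?_
      rw [Ideal.mem_comap, RingHom.mem_ker, hπ₁, Ideal.Quotient.eq_zero_iff_mem]
      exact hx
    have := hle hb
    rw [RingHom.mem_ker, hπ₁, Ideal.Quotient.eq_zero_iff_mem] at this
    exact this

/-- Localizing an isomorphism modulo `K` at a prime containing `K`. -/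
theorem quot_local {B C R S : Type u} [CommRing B] [CommRing C] (β : B →+* C) (K : Ideal B)
    (hs : Function.Surjective ((Ideal.Quotient.mk (K.map β)).comp β)) (hi : (K.map β).comap β ≤ K)
    (Q : Ideal C) [Q.IsPrime] [CommRing R] [IsLocalRing R] [Algebra B R] [IsLocalization.AtPrime R (Q.comap β)]
    [CommRing S] [IsLocalRing S] [Algebra C S] [IsLocalization.AtPrime S Q]
    (χ : R →+* S) (hχ : ∀ b, χ (algebraMap B R b) = algebraMap C S (β b))
    (n : ℕ) (hn : n ≠ 0) (hK : K ≤ Q.comap β ^ n) :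
    (IsLocalRing.maximalIdeal R).map χ = IsLocalRing.maximalIdeal S ∧
      Function.Surjective ((Ideal.Quotient.mk (IsLocalRing.maximalIdeal S ^ n)).comp χ) ∧
      (IsLocalRing.maximalIdeal S ^ n).comap χ ≤ IsLocalRing.maximalIdeal R ^ n := by
  set P := Q.comap β with hP
  have hKP : K ≤ P := hK.trans (Ideal.pow_le_self hn)
  have hdec : ∀ c, ∃ b, c - β b ∈ K.map β := fun c => by
    obtain ⟨b, hb⟩ := hs (Ideal.Quotient.mk _ c)
    exact ⟨b, Ideal.Quotient.eq.1 hb.symm⟩
  have hQ : P.map β = Q := by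
    refine le_antisymm Ideal.map_comap_le fun c hc => ?_
    obtain ⟨b, hb⟩ := hdec c
    have h1 : c - β b ∈ P.map β := Ideal.map_mono hKP hb
    have h2 : b ∈ P := by
      have := sub_mem hc (Ideal.map_comap_le (f := β) h1)
      rwa [sub_sub_cancel] at this
    simpa using add_mem h1 (Ideal.mem_map_of_mem β h2)
  have hKQ : K.map β ≤ Q ^ n := by
    rw [← hQ, ← Ideal.map_pow]; exact Ideal.map_mono hK
  have hpow : (Q ^ n).comap β ≤ P ^ n := fun b hb => by
    have h1 : Ideal.Quotient.mk (K.map β) (β b) ∈ (P ^ n).map ((Ideal.Quotient.mk (K.map β)).comp β) := by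
      rw [← Ideal.map_map, Ideal.map_pow β P n, hQ]
      exact Ideal.mem_map_of_mem _ hb
    obtain ⟨p, hp, hpb⟩ := (Ideal.mem_map_iff_of_surjective _ hs).1 h1
    have h2 : p - b ∈ K := hi (show β (p - b) ∈ K.map β by
      rw [map_sub]; exact Ideal.Quotient.eq.1 hpb)
    simpa using sub_mem hp (hK h2)
  have hmR : IsLocalRing.maximalIdeal R = P.map (algebraMap B R) := (IsLocalization.AtPrime.map_eq_maximalIdeal P R).symm
  have hmS : IsLocalRing.maximalIdeal S = Q.map (algebraMap C S) := (IsLocalization.AtPrime.map_eq_maximalIdeal Q S).symm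
  have hcomp : χ.comp (algebraMap B R) = (algebraMap C S).comp β := RingHom.ext hχ
  have hmax : (IsLocalRing.maximalIdeal R).map χ = IsLocalRing.maximalIdeal S := by
    rw [hmR, hmS, Ideal.map_map, hcomp, ← Ideal.map_map, hQ]
  refine ⟨hmax, fun z => ?_, fun r hr => ?_⟩
  · obtain ⟨x, rfl⟩ := Ideal.Quotient.mk_surjective z
    obtain ⟨c, ⟨t, ht⟩, rfl⟩ := IsLocalization.exists_mk'_eq Q.primeCompl x
    obtain ⟨b, hb⟩ := hdec c
    obtain ⟨v, hv⟩ := hdec t
    have hvP : v ∈ P.primeCompl := fun hvP => ht (by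
      have := add_mem (Ideal.pow_le_self hn (hKQ hv)) (show β v ∈ Q from hvP)
      simpa using this)
    refine ⟨IsLocalization.mk' R b (⟨v, hvP⟩ : P.primeCompl), ?_⟩
    rw [RingHom.comp_apply, Ideal.Quotient.eq]
    set y := IsLocalization.mk' R b (⟨v, hvP⟩ : P.primeCompl)
    set x := IsLocalization.mk' S c (⟨t, ht⟩ : Q.primeCompl)
    have hy : χ y * algebraMap C S (β v) = algebraMap C S (β b) := by
      rw [← hχ, ← hχ, ← map_mul]
      exact congrArg χ (IsLocalization.mk'_spec R b (⟨v, hvP⟩ : P.primeCompl))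
    have hx : x * algebraMap C S t = algebraMap C S c := IsLocalization.mk'_spec S c (⟨t, ht⟩ : Q.primeCompl)
    have hu : IsUnit (algebraMap C S t * algebraMap C S (β v)) :=
      (IsLocalization.map_units S (⟨t, ht⟩ : Q.primeCompl)).mul (IsLocalization.map_units S (⟨β v, hvP⟩ : Q.primeCompl))
    have he : (χ y - x) * (algebraMap C S t * algebraMap C S (β v)) =
        algebraMap C S (β b * (t - β v) - (c - β b) * β v) := by
      simp only [map_sub, map_mul]
      linear_combination algebraMap C S t * hy - algebraMap C S (β v) * hx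
    refine (Ideal.mul_unit_mem_iff_mem _ hu).1 ?_
    rw [he, hmS, ← Ideal.map_pow]
    exact Ideal.mem_map_of_mem _ (sub_mem (Ideal.mul_mem_left _ _ (hKQ hv)) (Ideal.mul_mem_right _ _ (hKQ hb)))
  · obtain ⟨b, ⟨v, hv⟩, rfl⟩ := IsLocalization.exists_mk'_eq P.primeCompl r
    have hb : algebraMap C S (β b) ∈ IsLocalRing.maximalIdeal S ^ n := by
      rw [← hχ, ← IsLocalization.mk'_spec R b (⟨v, hv⟩ : P.primeCompl), map_mul]
      exact Ideal.mul_mem_right _ _ hr
    rw [hmS, ← Ideal.map_pow, IsLocalization.algebraMap_mem_map_algebraMap_iff Q.primeCompl] at hb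
    obtain ⟨u, hu, hub⟩ := hb
    obtain ⟨w, hw⟩ := hdec u
    have hwP : w ∈ P.primeCompl := fun hwP => hu (by
      have := add_mem (Ideal.pow_le_self hn (hKQ hw)) (show β w ∈ Q from hwP)
      simpa using this)
    have hwb : β (w * b) ∈ Q ^ n := by
      have := sub_mem hub (Ideal.mul_mem_right (β b) _ (hKQ hw))
      rw [map_mul]
      convert this using 1; ring
    rw [hmR, ← Ideal.map_pow, IsLocalization.mk'_mem_map_algebraMap_iff P.primeCompl]
    exact ⟨w, hwP, hpow hwb⟩

/-- At a point of the closed fibre of the base change to the completion, the local rings agree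
modulo powers of the maximal ideals. -/
theorem stalk_data (A : Type u) [CommRing A] [IsLocalRing A] (hm : (IsLocalRing.maximalIdeal A).FG)
    {X : Scheme.{u}} (f : X ⟶ Spec (CommRingCat.of A)) (y : Curv2.bcCpl A f)
    (hy : f ((Curv2.bcCplFst A f) y) = IsLocalRing.closedPoint A) (n : ℕ) (hn : n ≠ 0) :
    (IsLocalRing.maximalIdeal (X.presheaf.stalk ((Curv2.bcCplFst A f) y))).map ((Curv2.bcCplFst A f).stalkMap y).hom =
        IsLocalRing.maximalIdeal ((Curv2.bcCpl A f).presheaf.stalk y) ∧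
      Function.Surjective ((Ideal.Quotient.mk (IsLocalRing.maximalIdeal ((Curv2.bcCpl A f).presheaf.stalk y) ^ n)).comp
        ((Curv2.bcCplFst A f).stalkMap y).hom) ∧
      (IsLocalRing.maximalIdeal ((Curv2.bcCpl A f).presheaf.stalk y) ^ n).comap ((Curv2.bcCplFst A f).stalkMap y).hom ≤
        IsLocalRing.maximalIdeal (X.presheaf.stalk ((Curv2.bcCplFst A f) y)) ^ n := by
  let ρ : A →+* Curv2.cpl A := algebraMap A (Curv2.cpl A)
  let g := Spec.map (CommRingCat.ofHom ρ)
  let g' := Curv2.bcCplFst A f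
  let f' := Curv2.bcCplSnd A f
  have hc : IsPullback g' f' f g := IsPullback.of_hasPullback f g
  let p := g' y
  obtain ⟨U, hU, hpU, -⟩ := exists_isAffineOpen_mem_and_subset (x := p) (U := ⊤) trivial
  have eU : U ≤ f ⁻¹ᵁ ⊤ := le_top
  have eW : (⊤ : (Spec (CommRingCat.of (Curv2.cpl A))).Opens) ≤ g ⁻¹ᵁ ⊤ := le_top
  let P : (Curv2.bcCpl A f).Opens := g' ⁻¹ᵁ U ⊓ f' ⁻¹ᵁ ⊤
  have hyP : y ∈ P := ⟨hpU, trivial⟩
  have hPaff : IsAffineOpen P := by
    have : IsAffine _ := hU
    have : IsAffine (⊤ : (Spec (CommRingCat.of (Curv2.cpl A))).Opens).toScheme := isAffineOpen_top _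
    have : IsAffine (⊤ : (Spec (CommRingCat.of A)).Opens).toScheme := isAffineOpen_top _
    exact .of_isIso (Scheme.Hom.isPullback_resLE hc eW eU (UY := P) rfl).isoPullback.hom
  have hpush := (isIso_pushoutSection_iff hc eW eU (UY := P) rfl).mp
    (isIso_pushoutSection_of_isAffineOpen hc eW eU (UY := P) rfl (isAffineOpen_top _) (isAffineOpen_top _) hU)
  let φ : A →+* Γ(X, U) := ((Scheme.ΓSpecIso (CommRingCat.of A)).inv ≫ f.appLE ⊤ U eU).hom
  let β : Γ(X, U) →+* Γ(Curv2.bcCpl A f, P) := (g'.appLE U P inf_le_left).hom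
  let δ : Curv2.cpl A →+* Γ(Curv2.bcCpl A f, P) :=
    ((Scheme.ΓSpecIso (CommRingCat.of (Curv2.cpl A))).inv ≫ f'.appLE ⊤ P inf_le_right).hom
  have hnat : CommRingCat.ofHom ρ ≫ (Scheme.ΓSpecIso (CommRingCat.of (Curv2.cpl A))).inv =
      (Scheme.ΓSpecIso (CommRingCat.of A)).inv ≫ g.appLE ⊤ ⊤ eW := by
    rw [Scheme.ΓSpecIso_inv_naturality, Scheme.Hom.appLE]
    congr 1
  have hsq : IsPushout (CommRingCat.ofHom φ) (CommRingCat.ofHom ρ) (CommRingCat.ofHom β) (CommRingCat.ofHom δ) := by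
    refine IsPushout.of_iso hpush (Scheme.ΓSpecIso (CommRingCat.of A)) (Iso.refl _)
      (Scheme.ΓSpecIso (CommRingCat.of (Curv2.cpl A))) (Iso.refl _) ?_ ?_ ?_ ?_
    · simp [φ]
    · rw [← Iso.eq_comp_inv, Category.assoc, hnat]; simp
    · simp [β, g']
    · simp [δ, f']
  let J := IsLocalRing.maximalIdeal A ^ n
  let ev : Curv2.cpl A →+* A ⧸ J := (AdicCompletion.evalₐ (IsLocalRing.maximalIdeal A) n).toRingHom
  have hev : ev.comp ρ = Ideal.Quotient.mk J := RingHom.ext fun a =>
    (AdicCompletion.evalₐ (IsLocalRing.maximalIdeal A) n).commutes a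
  have hker : RingHom.ker ev ≤ J.map ρ := fun d hd => by
    have h0 : AdicCompletion.evalₐ (IsLocalRing.maximalIdeal A) n d = 0 := hd
    have h1 : AdicCompletion.eval (IsLocalRing.maximalIdeal A) A n d = 0 := by
      rw [← AdicCompletion.factor_evalₐ_eq_eval (IsLocalRing.maximalIdeal A) _ (by rw [smul_eq_mul, Ideal.mul_top]), h0, map_zero]
    rw [← LinearMap.mem_ker, ← AdicCompletion.pow_smul_top_eq_ker_eval hm, Ideal.smul_top_eq_map] at h1
    exact h1
  obtain ⟨hs, hi⟩ := quot_of_pushout hsq J ev hev hker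
  letI : Algebra Γ(X, U) (X.presheaf.stalk p) := X.presheaf.algebra_section_stalk ⟨p, hpU⟩
  letI : Algebra Γ(Curv2.bcCpl A f, P) ((Curv2.bcCpl A f).presheaf.stalk y) :=
    (Curv2.bcCpl A f).presheaf.algebra_section_stalk ⟨y, hyP⟩
  haveI h1 : IsLocalization.AtPrime ((Curv2.bcCpl A f).presheaf.stalk y) (hPaff.primeIdealOf ⟨y, hyP⟩).asIdeal :=
    hPaff.isLocalization_stalk ⟨y, hyP⟩
  haveI h2 : IsLocalization.AtPrime (X.presheaf.stalk p) (hU.primeIdealOf ⟨p, hpU⟩).asIdeal :=
    hU.isLocalization_stalk ⟨p, hpU⟩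
  let χ : X.presheaf.stalk p →+* (Curv2.bcCpl A f).presheaf.stalk y := (g'.stalkMap y).hom
  have hχ : ∀ b, χ (algebraMap Γ(X, U) (X.presheaf.stalk p) b) = algebraMap _ _ (β b) := fun b => by
    change g'.stalkMap y (X.presheaf.germ U p hpU b) = (Curv2.bcCpl A f).presheaf.germ P y hyP (g'.appLE U P inf_le_left b)
    rw [Scheme.Hom.germ_stalkMap_apply, Scheme.Hom.appLE, CommRingCat.comp_apply]
    exact ((Curv2.bcCpl A f).presheaf.germ_res_apply _ _ _ _).symm
  have hQ : (hU.primeIdealOf ⟨p, hpU⟩).asIdeal = (hPaff.primeIdealOf ⟨y, hyP⟩).asIdeal.comap β := by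
    rw [← IsLocalization.AtPrime.comap_maximalIdeal (X.presheaf.stalk p) (hU.primeIdealOf ⟨p, hpU⟩).asIdeal,
      ← IsLocalization.AtPrime.comap_maximalIdeal ((Curv2.bcCpl A f).presheaf.stalk y) (hPaff.primeIdealOf ⟨y, hyP⟩).asIdeal,
      Ideal.comap_comap,
      ← show χ.comp (algebraMap Γ(X, U) (X.presheaf.stalk p)) = (algebraMap _ _).comp β from RingHom.ext hχ,
      ← Ideal.comap_comap]
    haveI : IsLocalHom χ := inferInstanceAs (IsLocalHom (g'.stalkMap y).hom)
    rw [IsLocalRing.maximalIdeal_comap χ]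
  have hKP : J.map φ ≤ (hU.primeIdealOf ⟨p, hpU⟩).asIdeal ^ n := by
    rw [Ideal.map_pow]
    refine Ideal.pow_right_mono (Ideal.map_le_iff_le_comap.2 fun a ha => ?_) n
    rw [Ideal.mem_comap, ← IsLocalization.AtPrime.comap_maximalIdeal (X.presheaf.stalk p) (hU.primeIdealOf ⟨p, hpU⟩).asIdeal,
      Ideal.mem_comap]
    show ¬ IsUnit (X.presheaf.germ U p hpU (f.appLE ⊤ U eU ((Scheme.ΓSpecIso (CommRingCat.of A)).inv a)))
    rw [← Scheme.mem_basicOpen, Scheme.basicOpen_appLE, basicOpen_eq_of_affine]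
    rintro ⟨-, h⟩
    have h' : f p ∈ PrimeSpectrum.basicOpen (a : A) := h
    rw [show f p = IsLocalRing.closedPoint A from hy] at h'
    exact h' ha
  haveI : IsLocalization.AtPrime (X.presheaf.stalk p) ((hPaff.primeIdealOf ⟨y, hyP⟩).asIdeal.comap β) := by
    simp only [← hQ]; exact h2
  exact quot_local β (J.map φ) hs hi (hPaff.primeIdealOf ⟨y, hyP⟩).asIdeal χ hχ n hn (hQ ▸ hKP)

/-- Regularity at a point of the closed fibre is detected after base change to the completion. -/
theorem regular_iff (A : Type u) [CommRing A] [IsLocalRing A] [IsNoetherianRing A]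
    {X : Scheme.{u}} (f : X ⟶ Spec (CommRingCat.of A)) [LocallyOfFiniteType f] (y : Curv2.bcCpl A f)
    (hy : f ((Curv2.bcCplFst A f) y) = IsLocalRing.closedPoint A) :
    IsRegularLocalRing ((Curv2.bcCpl A f).presheaf.stalk y) ↔
      IsRegularLocalRing (X.presheaf.stalk ((Curv2.bcCplFst A f) y)) := by
  haveI : IsNoetherianRing (Curv2.cpl A) :=
    CAlg1.isNoetherianRing_adicCompletion _ (IsNoetherian.noetherian _)
  haveI : IsNoetherianRing (CommRingCat.of (Curv2.cpl A)) := ‹IsNoetherianRing (Curv2.cpl A)›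
  haveI : IsNoetherianRing (CommRingCat.of A) := ‹IsNoetherianRing A›
  haveI : IsLocallyNoetherian X := LocallyOfFiniteType.isLocallyNoetherian f
  haveI : IsLocallyNoetherian (Curv2.bcCpl A f) := LocallyOfFiniteType.isLocallyNoetherian (Curv2.bcCplSnd A f)
  haveI : Flat (Spec.map (CommRingCat.ofHom (algebraMap A (Curv2.cpl A)))) := by
    rw [HasRingHomProperty.Spec_iff (P := @Flat)]
    exact RingHom.flat_algebraMap_iff.2 inferInstance
  obtain ⟨hmax, -, -⟩ := stalk_data A (IsNoetherian.noetherian _) f y hy 1 one_ne_zero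
  let χ := ((Curv2.bcCplFst A f).stalkMap y).hom
  letI := χ.toAlgebra
  haveI : Module.Flat (X.presheaf.stalk ((Curv2.bcCplFst A f) y)) ((Curv2.bcCpl A f).presheaf.stalk y) :=
    Flat.stalkMap (Curv2.bcCplFst A f) y
  haveI : IsLocalHom (algebraMap (X.presheaf.stalk ((Curv2.bcCplFst A f) y)) ((Curv2.bcCpl A f).presheaf.stalk y)) :=
    inferInstanceAs (IsLocalHom χ)
  have hspan := CAlg6.spanFinrank_of_map_eq hmax
  have hdim := Unr55.ringKrullDim_eq_add_of_flat (X.presheaf.stalk ((Curv2.bcCplFst A f) y)) ((Curv2.bcCpl A f).presheaf.stalk y)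
  rw [RingHom.algebraMap_toAlgebra, hmax, ringKrullDim_eq_zero_of_isField ((Ideal.Quotient.maximal_ideal_iff_isField_quotient _).1 inferInstance), add_zero] at hdim
  rw [isRegularLocalRing_iff, isRegularLocalRing_iff, hspan, hdim]

end Groth.Agent.Res23.BCCompl
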