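import Groth.Agent.Res23.BlowPointFibre
import Groth.Prelude.Def_ModelsG
import Groth.Agent.Res23.BlowProper
import Groth.Agent.Curves2.VeryAmple.ProjSections
import Groth.Agent.Curves2.IdealFrame
import Groth.Agent.Curves2.ProjLineProper

/-!
The blow-up of a regular surface point embeds in the projective line over the base, with exceptional
divisor the projective line over the residue field.
-/

set_option autoImplicit false
set_option linter.style.haveILetI false
set_option backward.isDefEq.respectTransparency false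

noncomputable section

universe u

open CategoryTheory CategoryTheory.Limits AlgebraicGeometry IsLocalRing TopologicalSpace Opposite

namespace Groth.Agent.Res23.BlowLine

open Var76.LineBundle Var76.ZeroScheme Amp73

section Affine

variable {A : Type u} [CommRing A] {X : Scheme.{u}} (b : X ⟶ Spec (CommRingCat.of A)) (I : Ideal A)

/-- The exceptional ideal. -/
abbrev exc : X.IdealSheafData := (FSch.idealSpec A I).comap b

theorem exc_ideal (U : X.affineOpens) : (exc b I).ideal U = I.map (FBlow13.baseHom b U.1).hom := by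
  rw [exc, MP99.ideal_comap _ b ⟨⊤, isAffineOpen_top _⟩ U le_top, FBlow13.idealSpec_ideal_top, Ideal.map_map,
    ← CommRingCat.hom_comp]

theorem baseHom_res_apply {Q Q' : X.Opens} (e : Q' ≤ Q) (x : A) :
    X.presheaf.map (homOfLE e).op (FBlow13.baseHom b Q x) = FBlow13.baseHom b Q' x :=
  congrArg (fun φ => φ x) (FBlow13.baseHom_res (π := b) e)

theorem appTop_eq_baseHom (x : A) :
    b.appTop ((Scheme.ΓSpecIso (CommRingCat.of A)).inv x) = FBlow13.baseHom b ⊤ x := by
  show _ = b.appLE ⊤ (b ⁻¹ᵁ ⊤) le_rfl ((Scheme.ΓSpecIso (CommRingCat.of A)).inv x)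
  rw [Scheme.Hom.appLE_eq_app]
  rfl

theorem exceptional_kills [QuasiCompact b] {x : A} (hx : x ∈ I) :
    (exc b I).subschemeι.app ⊤ (FBlow13.baseHom b ⊤ x) = 0 := by
  let ι := (exc b I).subschemeι
  have h1 : FSch.idealSpec A I ≤ (exc b I).map b := Scheme.IdealSheafData.le_map_iff_comap_le.2 le_rfl
  have h2 := h1 ⟨⊤, isAffineOpen_top _⟩
  rw [Scheme.IdealSheafData.map, Scheme.Hom.ker_apply, FBlow13.idealSpec_ideal_top] at h2
  have h3 := h2 (Ideal.mem_map_of_mem _ hx)
  rw [RingHom.mem_ker] at h3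
  rw [← appTop_eq_baseHom]
  exact h3

theorem exists_sec [QuasiCompact b] {x : A} (hx : x ∈ I) :
    ∃ s : Γ(ClSub.idealMod (exc b I), ⊤), OmegaSh.idealSect (exc b I) ⊤ s = FBlow13.baseHom b ⊤ x :=
  Omega57.exists_idealSect_eq _ _ _ (exceptional_kills b I hx)

/-- The section of the exceptional ideal given by an element of the centre. -/
def sec [QuasiCompact b] {x : A} (hx : x ∈ I) : Γ(ClSub.idealMod (exc b I), ⊤) :=
  (exists_sec b I hx).choose

theorem idealSect_sec [QuasiCompact b] {x : A} (hx : x ∈ I) (W : X.Opens) :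
    OmegaSh.idealSect (exc b I) W (res _ (le_top : W ≤ ⊤) (sec b I hx)) = FBlow13.baseHom b W x := by
  rw [Curves2.idealSect_res, sec, (exists_sec b I hx).choose_spec, baseHom_res_apply]

variable {I} in
theorem chart_ideal_eq (hb : BlowUp.IsBlowUp b (FSch.idealSpec A I)) {a : A} (ha : a ∈ I) :
    (exc b I).ideal ⟨FBlow13.chartOpen b I a, FBlow13.isAffineOpen_chartOpen b hb ha⟩ =
        Ideal.span {FBlow13.baseHom b (FBlow13.chartOpen b I a) a} ∧
      FBlow13.baseHom b (FBlow13.chartOpen b I a) a ∈ nonZeroDivisors Γ(X, FBlow13.chartOpen b I a) := by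
  obtain ⟨ε, hε⟩ := FBlow13.exists_iso_sections b hb ha
  constructor
  · rw [exc_ideal]
    refine le_antisymm (Ideal.map_le_iff_le_comap.2 fun y hy => ?_) ?_
    · obtain ⟨d, hd⟩ := FBlow13.affineAlgebra_div (a := a) hy
      refine Ideal.mem_comap.2 (Ideal.mem_span_singleton'.2 ⟨ε d, ?_⟩)
      show _ = FBlow13.baseHom b _ y
      rw [← hε, ← hε, ← map_mul, ← hd]
    · rw [Ideal.span_le, Set.singleton_subset_iff]
      exact Ideal.mem_map_of_mem _ ha
  · rw [← hε]
    exact MulEquivClass.map_nonZeroDivisors ε ▸ Submonoid.mem_map_of_mem _ (FBlow13.affineAlgebra_nzd a)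

variable {I} in
/-- The generating locus of the section given by `a` is the chart of `a`. -/
theorem genLocus_sec [QuasiCompact b] (hb : BlowUp.IsBlowUp b (FSch.idealSpec A I)) {a : A} (ha : a ∈ I) :
    CohB1.genLocus _ (Var76.Frames.ofSection _ (sec b I ha)) = FBlow13.chartOpen b I a := by
  refine le_antisymm (fun x hx => ?_) ?_
  · obtain ⟨W, hW, hxW, hWle⟩ := exists_isAffineOpen_mem_and_subset hx
    have hfr := (isFrame_genLocus (Var76.Frames.ofSection _ (sec b I ha))).res hWle
    rw [Var76.Frames.val_ofSection, res_res] at hfr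
    refine MP99.le_maxLE (MP99.comap_le_of_ideal_le (U := W) fun y hy => ⟨⟨W, hW⟩, hy, le_rfl, fun r hr => ?_⟩) hxW
    obtain ⟨n, rfl⟩ := Curves2.exists_idealSect_of_mem (exc b I) ⟨W, hW⟩ hr
    obtain ⟨a', ha'⟩ := (hfr W le_rfl).2 n
    dsimp only at ha'
    rw [Amp73.res_self] at ha'
    rw [← ha', Omega57.idealSect_smul, idealSect_sec]
    refine Ideal.mul_mem_left _ _ ?_
    rw [exc_ideal b (Ideal.span {a})]
    exact Ideal.mem_map_of_mem _ (Ideal.mem_span_singleton_self a)
  · rw [← isFrame_iff_le_genLocus, Var76.Frames.val_ofSection]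
    obtain ⟨h1, h2⟩ := chart_ideal_eq b hb ha
    exact Curves2.isFrame_of_span _ ⟨_, FBlow13.isAffineOpen_chartOpen b hb ha⟩ h2 h1 _
      (idealSect_sec b I ha _)

/-- The chart is generated by constants and ratios. -/
theorem chart_closure_eq_top {a c : A} (hI : Ideal.span ({a, c} : Set A) = I) [QuasiCompact b]
    (hb : BlowUp.IsBlowUp b (FSch.idealSpec A I)) (ha : a ∈ I) (hc : c ∈ I)
    (S : Subring Γ(X, FBlow13.chartOpen b I a))
    (hconst : ∀ r : A, FBlow13.baseHom b (FBlow13.chartOpen b I a) r ∈ S)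
    (hratio : ∀ q : Γ(X, FBlow13.chartOpen b I a),
      q • res (ClSub.idealMod (exc b I)) (le_top : FBlow13.chartOpen b I a ≤ ⊤) (sec b I ha) =
        res _ le_top (sec b I hc) → q ∈ S) : S = ⊤ := by
  obtain ⟨ε, hε⟩ := FBlow13.exists_iso_sections b hb ha
  let v : Fin 2 → A := ![a, c]
  have hv : Ideal.span (Set.range v) = I := by
    rw [← hI]
    congr 1
    ext x
    simp [v, or_comm, eq_comm]
  subst hv
  obtain ⟨μ, hμ⟩ := RegImm10.KoszulBlow.exists_hom (t := 1) v
  have hsurj := RegImm10.KoszulBlow.surjective v rfl μ hμ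
  refine eq_top_iff.2 fun y hy => ?_
  clear hy
  obtain ⟨z, rfl⟩ := ε.surjective y
  obtain ⟨p, rfl⟩ := hsurj z
  induction p using MvPolynomial.induction_on with
  | C r =>
    rw [show μ (MvPolynomial.C r) = algebraMap A _ r from μ.commutes r]
    exact (hε r).symm ▸ hconst r
  | add p q hp hq => rw [map_add, map_add]; exact add_mem hp hq
  | mul_X p i hp =>
    rw [map_mul, map_mul]
    refine mul_mem hp (hratio _ ?_)
    obtain rfl : i = 0 := Subsingleton.elim _ _
    refine Omega57.idealSect_injective _ _ ?_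
    rw [Omega57.idealSect_smul, idealSect_sec, idealSect_sec, ← hε, ← hε, ← map_mul, mul_comm]
    exact congrArg ε (hμ 0)

theorem toGlobal_fres (r : A) (G : X.Opens) :
    fres (le_top : G ≤ ⊤) (ProjUP.toGlobal b r) = FBlow13.baseHom b G r := by
  rw [← baseHom_res_apply b (le_top : G ≤ ⊤)]
  exact congrArg _ (appTop_eq_baseHom b r)

/-- A blow-up in a centre with two generators is embedded in the projective line. -/
theorem exists_immersion [QuasiCompact b] {a c : A} (hI : Ideal.span ({a, c} : Set A) = I)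
    (hb : BlowUp.IsBlowUp b (FSch.idealSpec A I)) :
    ∃ r : X ⟶ CohB1.ProjSpace 1 A, IsImmersion r ∧ r ≫ CohB1.ProjSpace.toSpec 1 A = b ∧
      Nonempty ((Scheme.Modules.pullback r).obj (Twist.twistProjSpace 1 A 1) ≅ ClSub.idealMod (exc b I)) := by
  have ha : a ∈ I := hI ▸ Ideal.subset_span (by simp)
  have hc : c ∈ I := hI ▸ Ideal.subset_span (by simp)
  refine Curves2.VeryAmple.exists_immersion_of_sections b _ ((Curves2.isInvertible_idealMod_iff _).2 hb.1) 1
    ![sec b I ha, sec b I hc] fun z => ?_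
  have key : ∀ (j : Fin 2) (x x' : A) (hx : x ∈ I) (hx' : x' ∈ I), Ideal.span ({x, x'} : Set A) = I →
      ![sec b I ha, sec b I hc] j = sec b I hx → (∃ j', ![sec b I ha, sec b I hc] j' = sec b I hx') →
      z ∈ FBlow13.chartOpen b I x →
      ∃ (j : Fin 2) (G : X.Opens),
        G = CohB1.genLocus _ (Var76.Frames.ofSection _ (![sec b I ha, sec b I hc] j)) ∧ z ∈ G ∧ IsAffineOpen G ∧
          Subring.closure (Set.range (fun c' : A => fres (le_top : G ≤ ⊤) (ProjUP.toGlobal b c')) ∪
            {q | ∃ j', q • res (ClSub.idealMod (exc b I)) (le_top : G ≤ ⊤) (![sec b I ha, sec b I hc] j) =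
              res _ (le_top : G ≤ ⊤) (![sec b I ha, sec b I hc] j')}) = ⊤ := by
    intro j x x' hx hx' hxx hj ⟨j', hj'⟩ hz
    refine ⟨j, FBlow13.chartOpen b I x, by rw [hj, genLocus_sec b hb hx], hz,
      FBlow13.isAffineOpen_chartOpen b hb hx, ?_⟩
    refine chart_closure_eq_top b I hxx hb hx hx' _ (fun r => ?_) fun q hq => ?_
    · rw [← toGlobal_fres]; exact Subring.subset_closure (Or.inl ⟨r, rfl⟩)
    · exact Subring.subset_closure (Or.inr ⟨j', by rw [hj, hj']; exact hq⟩)
  obtain ⟨x, hx, hzx⟩ := FBlow13.exists_mem_chartOpen_of_span b hb.1 hI z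
  rcases hx with rfl | rfl
  · exact key 0 x c ha hc hI rfl ⟨1, rfl⟩ hzx
  · exact key 1 x a hc ha (by rw [Set.pair_comm]; exact hI) rfl ⟨0, rfl⟩ hzx

end Affine

/-- A nontrivial closed irreducible subset of the projective line is everything. -/
theorem eq_univ_projLine {k : Type u} [Field k] {S : Set (CohB1.ProjSpace 1 k)} (hS : IsIrreducible S)
    (hSc : IsClosed S) (hnt : S.Nontrivial) : S = Set.univ := by
  haveI := Curves2.ProjLine.isIntegral k 1
  obtain ⟨ζ, hζ⟩ := QuasiSober.sober hS hSc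
  obtain ⟨v, hv, hvne⟩ := hnt.exists_ne ζ
  obtain ⟨j, hj⟩ := Var76.ProjCoord.exists_mem_U k 1 v
  let U := Var76.ProjCoord.U k 1 j
  have hU : IsAffineOpen U := Var76.ProjCoord.isAffineOpen_U k 1 j
  haveI := Curves2.ProjLine.isDomain_chart k 1 j
  haveI := Curves2.ProjLine.isPrincipalIdealRing_chart k j
  have hζU : ζ ∈ U := (hζ.specializes hv).mem_open U.2 hj
  let p := hU.primeIdealOf ⟨ζ, hζU⟩
  let q := hU.primeIdealOf ⟨v, hj⟩
  have hpq : p ⤳ q := by
    rw [← hU.fromSpec.isOpenEmbedding.isEmbedding.isInducing.specializes_iff]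
    erw [hU.fromSpec_primeIdealOf ⟨ζ, hζU⟩, hU.fromSpec_primeIdealOf ⟨v, hj⟩]
    exact hζ.specializes hv
  have hp : p.asIdeal = ⊥ := by
    by_contra hp
    have hmax : p.asIdeal.IsMaximal := p.isPrime.isMaximal_of_ne_bot hp
    have hle : p.asIdeal ≤ q.asIdeal := (PrimeSpectrum.le_iff_specializes _ _).2 hpq
    have heq : p = q := PrimeSpectrum.ext (hmax.eq_of_le q.isPrime.ne_top hle)
    exact hvne (by
      have e1 : hU.fromSpec q = v := hU.fromSpec_primeIdealOf ⟨v, hj⟩
      have e2 : hU.fromSpec p = ζ := hU.fromSpec_primeIdealOf ⟨ζ, hζU⟩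
      rw [← e1, ← e2]
      exact (congrArg hU.fromSpec heq).symm)
  refine Set.eq_univ_of_forall fun w => ?_
  refine ((genericPoint_spec (CohB1.ProjSpace 1 k)).specializes (y := w) trivial).mem_closed hSc ?_
  let g := genericPoint (CohB1.ProjSpace 1 k)
  have hgU : g ∈ U := ((genericPoint_spec (CohB1.ProjSpace 1 k)).specializes (y := v) trivial).mem_open U.2 hj
  have hsp : hU.fromSpec p ⤳ hU.fromSpec (hU.primeIdealOf ⟨g, hgU⟩) :=
    Specializes.map ((PrimeSpectrum.le_iff_specializes _ _).1 (by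
      show p.asIdeal ≤ _
      rw [hp]; exact bot_le)) hU.fromSpec.continuous
  erw [hU.fromSpec_primeIdealOf ⟨ζ, hζU⟩, hU.fromSpec_primeIdealOf ⟨g, hgU⟩] at hsp
  exact hsp.mem_closed hSc hζ.mem

section Regular

variable {A : Type u} [CommRing A] [IsRegularLocalRing A] {X : Scheme.{u}} (b : X ⟶ Spec (CommRingCat.of A))

theorem exists_closedImmersion [IsProper b] (hA : ringKrullDim A = 2)
    (hb : BlowUp.IsBlowUp b (FSch.idealSpec A (maximalIdeal A))) :
    ∃ r : X ⟶ CohB1.ProjSpace 1 A, IsClosedImmersion r ∧ r ≫ CohB1.ProjSpace.toSpec 1 A = b ∧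
      Nonempty ((Scheme.Modules.pullback r).obj (Twist.twistProjSpace 1 A 1) ≅
        ClSub.idealMod (exc b (maximalIdeal A))) := by
  obtain ⟨a, c, hac⟩ := BlowPoint.exists_pair hA
  obtain ⟨r, hr, hrb, hτ⟩ := exists_immersion b _ hac hb
  haveI := hr
  haveI : IsProper (r ≫ CohB1.ProjSpace.toSpec 1 A) := by rw [hrb]; infer_instance
  haveI : IsSeparated (CohB1.ProjSpace.toSpec 1 A) := by
    unfold CohB1.ProjSpace.toSpec; infer_instance
  haveI : IsProper r := IsProper.of_comp r (CohB1.ProjSpace.toSpec 1 A)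
  exact ⟨r, IsClosedImmersion.of_isPreimmersion r r.isClosedMap.isClosed_range, hrb, hτ⟩

/-- The exceptional divisor is an exceptional curve of the first kind. -/
theorem isExcCurve [IsProper b] (hA : ringKrullDim A = 2)
    (hb : BlowUp.IsBlowUp b (FSch.idealSpec A (maximalIdeal A))) :
    Models.IsExcCurve (exc b (maximalIdeal A)).subschemeι := by
  obtain ⟨a, c, hac⟩ := BlowPoint.exists_pair hA
  have ha : a ∈ maximalIdeal A := hac ▸ Ideal.subset_span (by simp)
  have hc : c ∈ maximalIdeal A := hac ▸ Ideal.subset_span (by simp)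
  let k := ResidueField A
  let J := exc b (maximalIdeal A)
  let Z := J.subscheme
  let ι : Z ⟶ X := J.subschemeι
  let M := ClSub.idealMod J
  have hMinv : PicF.IsInvertible M := (Curves2.isInvertible_idealMod_iff _).2 hb.1
  -- the structure over the residue field
  let ψ₀ : A →+* Γ(Z, ⊤) := ProjUP.toGlobal (ι ≫ b)
  have hψ₀ : ∀ x, ψ₀ x = ι.app ⊤ (FBlow13.baseHom b ⊤ x) := fun x => by
    rw [← appTop_eq_baseHom]
    rfl
  let ψ : k →+* Γ(Z, ⊤) :=
    Ideal.Quotient.lift (maximalIdeal A) ψ₀ fun x hx => (hψ₀ x).trans (exceptional_kills b _ hx)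
  let q : Z ⟶ Spec (CommRingCat.of k) := Z.toSpecΓ ≫ Spec.map (CommRingCat.ofHom ψ)
  have hq : ∀ x, ProjUP.toGlobal q x = ψ x := fun x => by
    show ((Scheme.ΓSpecIso (CommRingCat.of k)).inv ≫ (Z.toSpecΓ ≫ Spec.map (CommRingCat.ofHom ψ)).appTop) x = ψ x
    rw [Scheme.Hom.comp_appTop, ← Scheme.ΓSpecIso_inv_naturality_assoc, Scheme.toSpecΓ_appTop,
      Iso.inv_hom_id, Category.comp_id]
    rfl
  have hqb : q ≫ Spec.map (CommRingCat.ofHom (residue A)) = ι ≫ b := by
    refine ext_of_isAffine ?_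
    rw [← cancel_epi (Scheme.ΓSpecIso (CommRingCat.of A)).inv, Scheme.Hom.comp_appTop,
      ← Scheme.ΓSpecIso_inv_naturality_assoc]
    ext x
    exact (hq (residue A x)).trans (Ideal.Quotient.lift_mk _ _ _)
  haveI : IsProper (ι ≫ b) := inferInstance
  haveI : IsClosedImmersion (Spec.map (CommRingCat.ofHom (residue A))) :=
    IsClosedImmersion.spec_of_surjective _ residue_surjective
  haveI : IsProper (q ≫ Spec.map (CommRingCat.ofHom (residue A))) := by rw [hqb]; infer_instance
  haveI : IsProper q := IsProper.of_comp q (Spec.map (CommRingCat.ofHom (residue A)))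
  -- the immersion
  let u : Fin 2 → Γ((Scheme.Modules.pullback ι).obj M, ⊤) :=
    fun j => pullS ι M ⊤ (![sec b _ ha, sec b _ hc] j)
  have hgen : ∀ (x : A) (hx : x ∈ maximalIdeal A),
      CohB1.genLocus _ (Var76.Frames.ofSection _ (pullS ι M ⊤ (sec b _ hx) :
          Γ((Scheme.Modules.pullback ι).obj M, ⊤))) =
        ι ⁻¹ᵁ FBlow13.chartOpen b (maximalIdeal A) x := fun x hx => by
    rw [← genLocus_sec b hb hx, ← genLocus_pullHom ι hMinv]
    have e2 : ∀ W : Z.Opens, val _ (pullHom ι (Var76.Frames.ofSection M (sec b _ hx))) W =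
        val _ (Var76.Frames.ofSection _ (pullS ι M ⊤ (sec b _ hx) :
          Γ((Scheme.Modules.pullback ι).obj M, ⊤))) W := fun W => by
      have h3 : val _ (pullHom ι (Var76.Frames.ofSection M (sec b _ hx))) ⊤ = pullS ι M ⊤ (sec b _ hx) := by
        refine (val_pullHom ι _ ⊤).trans (congrArg _ ?_)
        exact (Var76.Frames.val_ofSection _ _ ⊤).trans (Amp73.res_self _ _)
      rw [← res_val _ _ (le_top : W ≤ ⊤), h3, Var76.Frames.val_ofSection]
    refine le_antisymm ?_ ?_
    all_goals rw [← isFrame_iff_le_genLocus]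
    · rw [e2]; exact (isFrame_iff_le_genLocus _ _).2 le_rfl
    · rw [← e2]; exact (isFrame_iff_le_genLocus _ _).2 le_rfl
  obtain ⟨i, hi, hiq, ⟨τ⟩⟩ := Curves2.VeryAmple.exists_immersion_of_sections q
      ((Scheme.Modules.pullback ι).obj M) (Amp73.isInvertible_pullback ι hMinv) 1 u fun z => by
    have key : ∀ (j : Fin 2) (x x' : A) (hx : x ∈ maximalIdeal A) (hx' : x' ∈ maximalIdeal A),
        Ideal.span ({x, x'} : Set A) = maximalIdeal A →
        ![sec b _ ha, sec b _ hc] j = sec b _ hx → (∃ j', ![sec b _ ha, sec b _ hc] j' = sec b _ hx') →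
        ι z ∈ FBlow13.chartOpen b (maximalIdeal A) x →
        ∃ (j : Fin 2) (G : Z.Opens), G = CohB1.genLocus _ (Var76.Frames.ofSection _ (u j)) ∧ z ∈ G ∧
          IsAffineOpen G ∧
          Subring.closure (Set.range (fun c' : k => fres (le_top : G ≤ ⊤) (ProjUP.toGlobal q c')) ∪
            {s | ∃ j', s • res _ (le_top : G ≤ ⊤) (u j) = res _ (le_top : G ≤ ⊤) (u j')}) = ⊤ := by
      intro j x x' hx hx' hxx hj ⟨j', hj'⟩ hz
      let D := FBlow13.chartOpen b (maximalIdeal A) x
      have hD : IsAffineOpen D := FBlow13.isAffineOpen_chartOpen b hb hx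
      refine ⟨j, ι ⁻¹ᵁ D, ?_, hz, hD.preimage ι, ?_⟩
      · show _ = CohB1.genLocus _ (Var76.Frames.ofSection _ (pullS ι M ⊤ (![sec b _ ha, sec b _ hc] j)))
        rw [hj, hgen x hx]
      · refine eq_top_iff.2 fun y _ => ?_
        obtain ⟨y, rfl⟩ := ι.app_surjective D hD y
        let S := Subring.closure (Set.range (fun c' : k => fres (le_top : ι ⁻¹ᵁ D ≤ ⊤) (ProjUP.toGlobal q c')) ∪
            {s | ∃ j', s • res _ (le_top : ι ⁻¹ᵁ D ≤ ⊤) (u j) = res _ (le_top : ι ⁻¹ᵁ D ≤ ⊤) (u j')})
        have : S.comap (ι.app D).hom = ⊤ := by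
          refine chart_closure_eq_top b _ hxx hb hx hx' _ (fun r => ?_) fun s hs => ?_
          · refine Subring.subset_closure (Or.inl ⟨residue A r, ?_⟩)
            show fres _ (ProjUP.toGlobal q (residue A r)) = ι.app D (FBlow13.baseHom b D r)
            rw [hq, show ψ (residue A r) = ψ₀ r from Ideal.Quotient.lift_mk _ _ _, hψ₀,
              ← baseHom_res_apply b (le_top : D ≤ ⊤) r]
            exact (congrArg (fun φ => φ (FBlow13.baseHom b ⊤ r)) (ι.naturality (homOfLE (le_top : D ≤ ⊤)).op)).symm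
          · refine Subring.subset_closure (Or.inr ⟨j', ?_⟩)
            show ι.app D s • res _ (ι.preimage_mono le_top) (pullS ι M ⊤ (![sec b _ ha, sec b _ hc] j)) =
              res _ (ι.preimage_mono le_top) (pullS ι M ⊤ (![sec b _ ha, sec b _ hc] j'))
            rw [hj, hj', res_pullS ι M (le_top : D ≤ ⊤), res_pullS ι M (le_top : D ≤ ⊤), ← pullS_smul]
            exact congrArg _ hs
        exact (this.ge (Subring.mem_top y) : _)
    obtain ⟨x, hx, hzx⟩ := FBlow13.exists_mem_chartOpen_of_span b hb.1 hac (ι z)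
    rcases hx with rfl | rfl
    · exact key 0 x c ha hc hac rfl ⟨1, rfl⟩ hzx
    · exact key 1 x a hc ha (by rw [Set.pair_comm]; exact hac) rfl ⟨0, rfl⟩ hzx
  -- it is an isomorphism
  haveI := hi
  haveI := Curves2.ProjLine.isProper_toSpec k 1
  haveI : IsProper (i ≫ CohB1.ProjSpace.toSpec 1 k) := by rw [hiq]; infer_instance
  haveI : IsProper i := IsProper.of_comp i (CohB1.ProjSpace.toSpec 1 k)
  haveI : IsClosedImmersion i := IsClosedImmersion.of_isPreimmersion i i.isClosedMap.isClosed_range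
  have hιr : Set.range ι = b ⁻¹' {closedPoint A} := by
    rw [show ι = J.subschemeι from rfl, Scheme.IdealSheafData.range_subschemeι]
    show ((((FSch.idealSpec A (maximalIdeal A)).comap b).support : Set X)) = _
    rw [Scheme.IdealSheafData.support_comap, TopologicalSpace.Closeds.coe_preimage]
    congr 1
    rw [support_idealSpec]
  obtain ⟨η, hη, hηgen, -⟩ := BlowPointFibre.exists_generic_closedFibre b hA hb
  obtain ⟨w₀, hw₀⟩ : η ∈ Set.range ι := hιr.ge hη
  have hirr : IsIrreducible (Set.univ : Set Z) := by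
    have : closure ({w₀} : Set Z) = Set.univ := Set.eq_univ_of_forall fun w => by
      rw [ι.isClosedEmbedding.isEmbedding.isInducing.closure_eq_preimage_closure_image, Set.image_singleton, hw₀,
        Set.mem_preimage, ← specializes_iff_mem_closure]
      exact hηgen _ (hιr.le ⟨w, rfl⟩)
    exact this ▸ isIrreducible_singleton.closure
  haveI : Surjective i := ⟨by
    have hirr' : IsIrreducible (Set.range i) := by
      rw [← Set.image_univ]; exact hirr.image _ i.continuous.continuousOn
    have hnt : (Set.range i).Nontrivial := by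
      obtain ⟨L, -, hLinj, hLr, -⟩ := BlowPointFibre.exists_line b hA hb hac
      let o : PrimeSpectrum (MvPolynomial (Fin 1) k) := ⟨⊥, Ideal.isPrime_bot⟩
      let o' : PrimeSpectrum (MvPolynomial (Fin 1) k) := ⟨Ideal.span {MvPolynomial.X 0},
        (Ideal.span_singleton_prime (MvPolynomial.X_ne_zero 0)).2 MvPolynomial.X_prime⟩
      obtain ⟨w₁, hw₁⟩ : L o ∈ Set.range ι := hιr.ge (hLr.le ⟨o, rfl⟩).1
      obtain ⟨w₂, hw₂⟩ : L o' ∈ Set.range ι := hιr.ge (hLr.le ⟨o', rfl⟩).1
      refine ⟨i w₁, ⟨w₁, rfl⟩, i w₂, ⟨w₂, rfl⟩, fun h => ?_⟩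
      have h1 : o = o' := hLinj (by rw [← hw₁, ← hw₂, i.isClosedEmbedding.injective h])
      have h2 : (⊥ : Ideal (MvPolynomial (Fin 1) k)) = Ideal.span {MvPolynomial.X 0} :=
        congrArg PrimeSpectrum.asIdeal h1
      exact MvPolynomial.X_ne_zero (R := k) (0 : Fin 1) (Ideal.span_singleton_eq_bot.1 h2.symm)
    intro w
    exact (eq_univ_projLine hirr' i.isClosedMap.isClosed_range hnt).ge trivial⟩
  haveI := Curves2.ProjLine.isIntegral k 1
  haveI : IsIso i := isIso_of_isClosedImmersion_of_surjective i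
  refine ⟨?_, k, inferInstance, (asIso i).symm, ⟨?_⟩⟩
  · rw [Scheme.IdealSheafData.ker_subschemeι]; exact hb.1
  · rw [Scheme.IdealSheafData.ker_subschemeι]
    exact ((Scheme.Modules.pullbackComp (inv i) ι).symm.app M) ≪≫
      (Scheme.Modules.pullback (inv i)).mapIso τ.symm ≪≫
      (Scheme.Modules.pullbackComp (inv i) i).app _ ≪≫
      (Scheme.Modules.pullbackCongr (IsIso.inv_hom_id i)).app _ ≪≫
      (Scheme.Modules.pullbackId _).app _
where
  support_idealSpec : ((FSch.idealSpec A (maximalIdeal A)).support : Set (Spec (CommRingCat.of A))) = {closedPoint A} := by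
    rw [FSch.idealSpec]
    haveI : IsClosedImmersion (Spec.map (CommRingCat.ofHom (Ideal.Quotient.mk (maximalIdeal A)))) :=
      IsClosedImmersion.spec_of_surjective _ Ideal.Quotient.mk_surjective
    rw [RegImm10.BlowCech.coe_support_ker]
    refine (range_comap_of_surjective _ _ Ideal.Quotient.mk_surjective).trans ?_
    rw [Ideal.mk_ker]
    ext p
    exact ⟨fun h => PrimeSpectrum.ext ((maximalIdeal.isMaximal A).eq_of_le p.2.ne_top h).symm,
      fun h => by subst h; show (maximalIdeal A : Set A) ⊆ _; exact subset_rfl⟩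

end Regular

end Groth.Agent.Res23.BlowLine
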