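import Mathlib.RingTheory.AdjoinRoot
import Mathlib.RingTheory.Kaehler.Basic
import Mathlib.LinearAlgebra.ExteriorPower.Basic
import Mathlib.LinearAlgebra.TensorProduct.Tower
import Mathlib.RingTheory.TensorProduct.Maps
import Mathlib.Algebra.CharP.Basic
import Mathlib.Algebra.CharP.Algebra

/-!
The trace map on exterior powers of differentials for the extension `R[x]/(x ^ p - a)` in
characteristic `p`.
-/

set_option autoImplicit false

noncomputable section

universe u

open Polynomial TensorProduct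

namespace Groth.Agent.Res23.ExtTrace

section Alternating

variable {S L M B : Type u} [CommRing S] [AddCommGroup L] [AddCommGroup M] [AddCommGroup B]
  [Module S L] [Module S M] [Module S B]

/-- An alternating map is unchanged by a replacement of entries whose single steps do not change it. -/
theorem eq_of_steps {n : ℕ} (Ψ : L [⋀^Fin n]→ₗ[S] B) (l l' : Fin n → L)
    (h : ∀ (m : Fin n) (v : Fin n → L), (∀ j, j ≠ m → v j = l j ∨ v j = l' j) →
      Ψ (Function.update v m (l' m - l m)) = 0) : Ψ l = Ψ l' := by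
  classical
  suffices ∀ s : Finset (Fin n), Ψ (s.piecewise l' l) = Ψ l by
    simpa using (this Finset.univ).symm
  intro s
  induction s using Finset.induction_on with
  | empty => simp
  | insert m s hm ih =>
    rw [Finset.piecewise_insert, ← ih, show l' m = l m + (l' m - l m) by abel, Ψ.map_update_add,
      h m _ (fun j _ => ?_), add_zero]
    · rw [show l m = s.piecewise l' l m by simp [hm], Function.update_eq_self]
    · by_cases hj : j ∈ s <;> simp [hj]

/-- Descend an alternating map along a surjection. -/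
def descend {n : ℕ} (π : L →ₗ[S] M) (hπ : Function.Surjective π) (Ψ : L [⋀^Fin n]→ₗ[S] B)
    (h : ∀ (l : Fin n → L) (i : Fin n), π (l i) = 0 → Ψ l = 0) : M [⋀^Fin n]→ₗ[S] B :=
  have key : ∀ l l' : Fin n → L, (∀ i, π (l i) = π (l' i)) → Ψ l = Ψ l' := fun l l' hl =>
    eq_of_steps Ψ l l' fun m v _ => h _ m (by rw [Function.update_self, map_sub, hl m, sub_self])
  { toFun := fun u => Ψ fun i => Function.surjInv hπ (u i)
    map_update_add' := fun {_} u i x y => by
      classical
      let σ := Function.surjInv hπ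
      have e : ∀ z, (fun j => σ (Function.update u i z j)) =
          Function.update (fun j => σ (u j)) i (σ z) := fun z =>
        funext fun j => Function.apply_update (fun _ => σ) u i z j
      show Ψ (fun j => σ _) = Ψ (fun j => σ _) + Ψ (fun j => σ _)
      rw [e, e, e, ← Ψ.map_update_add]
      refine key _ _ fun j => ?_
      by_cases hj : j = i
      · subst hj
        simp [σ, Function.surjInv_eq hπ]
      · simp [hj]
    map_update_smul' := fun {_} u i c x => by
      classical
      let σ := Function.surjInv hπ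
      have e : ∀ z, (fun j => σ (Function.update u i z j)) =
          Function.update (fun j => σ (u j)) i (σ z) := fun z =>
        funext fun j => Function.apply_update (fun _ => σ) u i z j
      show Ψ (fun j => σ _) = c • Ψ (fun j => σ _)
      rw [e, e, ← Ψ.map_update_smul]
      refine key _ _ fun j => ?_
      by_cases hj : j = i
      · subst hj
        simp [σ, Function.surjInv_eq hπ]
      · simp [hj]
    map_eq_zero_of_eq' := fun u i j hij hne => Ψ.map_eq_zero_of_eq _ (by simp only [hij]) hne }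

theorem descend_apply {n : ℕ} (π : L →ₗ[S] M) (hπ : Function.Surjective π) (Ψ : L [⋀^Fin n]→ₗ[S] B)
    (h : ∀ (l : Fin n → L) (i : Fin n), π (l i) = 0 → Ψ l = 0) (l : Fin n → L) :
    descend π hπ Ψ h (fun i => π (l i)) = Ψ l :=
  eq_of_steps Ψ _ l fun m v _ => h _ m
    (by rw [Function.update_self, map_sub, Function.surjInv_eq hπ, sub_self])

end Alternating

section BaseChangeExterior

variable (R S : Type u) [CommRing R] [CommRing S] [Algebra R S] (N : Type u) [AddCommGroup N] [Module R N]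

/-- The inclusion of the base change of `N` into the base change of its exterior algebra. -/
def jι : S ⊗[R] N →ₗ[S] S ⊗[R] ExteriorAlgebra R N := (ExteriorAlgebra.ι R).baseChange S

variable {R S N}

theorem jι_swap (x y : S ⊗[R] N) : jι R S N x * jι R S N y + jι R S N y * jι R S N x = 0 := by
  induction x with
  | zero => simp
  | add x₁ x₂ h₁ h₂ =>
    rw [map_add, add_mul, mul_add, add_add_add_comm, h₁, h₂, add_zero]
  | tmul s η =>
    induction y with
    | zero => simp
    | add y₁ y₂ h₁ h₂ =>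
      rw [map_add, mul_add, add_mul, add_add_add_comm, h₁, h₂, add_zero]
    | tmul s' η' =>
      simp only [jι, LinearMap.baseChange_tmul, Algebra.TensorProduct.tmul_mul_tmul]
      rw [mul_comm s' s, ← TensorProduct.tmul_add, ExteriorAlgebra.ι_add_mul_swap, TensorProduct.tmul_zero]

theorem jι_sq (x : S ⊗[R] N) : jι R S N x * jι R S N x = 0 := by
  induction x with
  | zero => simp
  | tmul s η => simp [jι, Algebra.TensorProduct.tmul_mul_tmul]
  | add x y hx hy =>
    rw [map_add, add_mul, mul_add, mul_add, hx, hy, zero_add, add_zero, jι_swap]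

variable (R S N)

/-- Products of elements of the base change of `N` in the base changed exterior algebra. -/
def wedge (n : ℕ) : (S ⊗[R] N) [⋀^Fin n]→ₗ[S] S ⊗[R] ExteriorAlgebra R N :=
  (ExteriorAlgebra.lift S ⟨jι R S N, jι_sq⟩).toLinearMap.compAlternatingMap (ExteriorAlgebra.ιMulti S n)

variable {R S N}

theorem wedge_apply {n : ℕ} (v : Fin n → S ⊗[R] N) :
    wedge R S N n v = (List.ofFn fun i => jι R S N (v i)).prod := by
  show ExteriorAlgebra.lift S ⟨jι R S N, jι_sq⟩ (ExteriorAlgebra.ιMulti S n v) = _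
  rw [ExteriorAlgebra.ιMulti_apply, map_list_prod, List.map_ofFn]
  congr 2
  funext i
  exact ExteriorAlgebra.lift_ι_apply S (jι R S N) jι_sq (v i)

theorem mul_mem_baseChange {P Q : Submodule R (ExteriorAlgebra R N)} {x y : S ⊗[R] ExteriorAlgebra R N}
    (hx : x ∈ P.baseChange S) (hy : y ∈ Q.baseChange S) : x * y ∈ (P * Q).baseChange S := by
  rw [Submodule.baseChange_eq_span] at hx hy
  refine Submodule.span_induction₂ (p := fun u v _ _ => u * v ∈ (P * Q).baseChange S) (fun a b ha hb => ?_) (fun _ _ => by simp) (fun _ _ => by simp)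
    (fun _ _ _ _ _ _ h₁ h₂ => by rw [add_mul]; exact add_mem h₁ h₂)
    (fun _ _ _ _ _ _ h₁ h₂ => by rw [mul_add]; exact add_mem h₁ h₂)
    (fun r _ _ _ _ h => by rw [smul_mul_assoc]; exact Submodule.smul_mem _ r h)
    (fun r _ _ _ _ h => by rw [mul_smul_comm]; exact Submodule.smul_mem _ r h) hx hy
  obtain ⟨a, ha, rfl⟩ := ha
  obtain ⟨b, hb, rfl⟩ := hb
  simp only [TensorProduct.mk_apply, Algebra.TensorProduct.tmul_mul_tmul, mul_one]
  exact Submodule.tmul_mem_baseChange_of_mem 1 (Submodule.mul_mem_mul ha hb)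

theorem wedge_mem {n : ℕ} (v : Fin n → S ⊗[R] N) :
    wedge R S N n v ∈ (⋀[R]^n N).baseChange S := by
  rw [wedge_apply]
  induction n with
  | zero =>
    rw [List.ofFn_zero, List.prod_nil, Algebra.TensorProduct.one_def]
    exact Submodule.tmul_mem_baseChange_of_mem 1 (by simp [ExteriorAlgebra.exteriorPower])
  | succ n ih =>
    rw [List.ofFn_succ, List.prod_cons, ExteriorAlgebra.exteriorPower, pow_succ']
    refine mul_mem_baseChange ?_ (ih _)
    induction v 0 with
    | zero => simp
    | add x y hx hy => rw [map_add]; exact add_mem hx hy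
    | tmul s η =>
      rw [jι, LinearMap.baseChange_tmul]
      exact Submodule.tmul_mem_baseChange_of_mem s ⟨η, rfl⟩

theorem wedge_one_tmul {n : ℕ} (η : Fin n → N) :
    wedge R S N n (fun i => (1 : S) ⊗ₜ η i) = 1 ⊗ₜ ExteriorAlgebra.ιMulti R n η := by
  induction n with
  | zero => simp [wedge_apply, Algebra.TensorProduct.one_def]
  | succ n ih =>
    rw [wedge_apply, List.ofFn_succ, List.prod_cons, ← wedge_apply (fun i : Fin n => (1 : S) ⊗ₜ η i.succ),
      ih (fun i => η i.succ), jι, LinearMap.baseChange_tmul, Algebra.TensorProduct.tmul_mul_tmul, one_mul,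
      ExteriorAlgebra.ιMulti_succ_apply]
    rfl

/-- Entries that differ by multiples of `e` do not matter if some entry is a multiple of `e`. -/
theorem wedge_eq_of_mem {n : ℕ} (e : S ⊗[R] N) (v w : Fin n → S ⊗[R] N) (i : Fin n)
    (hi : v i = w i) (hm : v i ∈ Submodule.span S {e}) (h : ∀ j, w j - v j ∈ Submodule.span S {e}) :
    wedge R S N n v = wedge R S N n w := by
  classical
  refine eq_of_steps _ v w fun m x hx => ?_
  by_cases hmi : i = m
  · subst hmi
    exact (wedge R S N n).map_coord_zero i (by rw [Function.update_self, hi, sub_self])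
  · obtain ⟨c, hc⟩ := Submodule.mem_span_singleton.1 hm
    obtain ⟨d, hd⟩ := Submodule.mem_span_singleton.1 (h m)
    have hxi : x i = c • e := by
      rcases hx i hmi with hh | hh
      · rw [hh, hc]
      · rw [hh, ← hi, hc]
    rw [← hd, AlternatingMap.map_update_smul]
    have : Function.update x m e = Function.update (Function.update x m e) i (c • e) := by
      rw [← hxi, ← Function.update_of_ne hmi e x, Function.update_eq_self]
    rw [this, AlternatingMap.map_update_smul]
    rw [(wedge R S N n).map_eq_zero_of_eq _ (i := i) (j := m) ?_ hmi, smul_zero, smul_zero]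
    simp [Ne.symm hmi]

end BaseChangeExterior

variable (p : ℕ) [Fact p.Prime] (Λ R : Type u) [CommRing Λ] [CommRing R] [Algebra Λ R] [CharP R p] (a : R)

/-- The extension. -/
abbrev Sa : Type u := AdjoinRoot (X ^ p - C a : R[X])

/-- The base change of the differentials of `R`. -/
abbrev Ea : Type u := Sa p R a ⊗[R] Ω[R⁄Λ]

/-- The free presentation of the differentials of the extension. -/
abbrev La : Type u := Ea p Λ R a × Sa p R a

/-- The presentation map. -/
def π : La p Λ R a →ₗ[Sa p R a] Ω[Sa p R a⁄Λ] :=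
  (KaehlerDifferential.mapBaseChange Λ R (Sa p R a)).coprod
    (LinearMap.toSpanSingleton _ _ (KaehlerDifferential.D Λ _ (AdjoinRoot.root _)))

/-- The base change of `da`. -/
def eA : Ea p Λ R a := 1 ⊗ₜ KaehlerDifferential.D Λ R a

/-- The relation module. -/
def K : Submodule (Sa p R a) (La p Λ R a) := Submodule.span _ {(eA p Λ R a, 0)}

theorem monic : (X ^ p - C a : R[X]).Monic :=
  monic_X_pow_sub_C a (Fact.out : p.Prime).ne_zero

/-- The universal derivation on the polynomial ring with values in the presentation. -/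
def D₀ : R[X] →ₗ[Λ] La p Λ R a :=
  Polynomial.lsum fun i =>
    LinearMap.prod
      ((TensorProduct.mk R (Sa p R a) Ω[R⁄Λ] (AdjoinRoot.root _ ^ i)).restrictScalars Λ ∘ₗ
        (KaehlerDifferential.D Λ R).toLinearMap)
      ((LinearMap.toSpanSingleton R (Sa p R a) ((i : Sa p R a) * AdjoinRoot.root _ ^ (i - 1))).restrictScalars Λ)

theorem D₀_monomial (i : ℕ) (r : R) : D₀ p Λ R a (monomial i r) =
    ((AdjoinRoot.root (X ^ p - C a) ^ i) ⊗ₜ[R] KaehlerDifferential.D Λ R r,
      r • ((i : Sa p R a) * AdjoinRoot.root (X ^ p - C a) ^ (i - 1))) := by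
  rw [D₀, lsum_apply, sum_monomial_index]
  · rfl
  · exact map_zero _

theorem D₀_mul (f g : R[X]) : D₀ p Λ R a (f * g) =
    AdjoinRoot.mk (X ^ p - C a) f • D₀ p Λ R a g + AdjoinRoot.mk (X ^ p - C a) g • D₀ p Λ R a f := by
  induction f using Polynomial.induction_on' with
  | add f₁ f₂ h₁ h₂ => rw [add_mul, map_add, map_add, map_add, h₁, h₂, add_smul, smul_add]; abel
  | monomial i r =>
    induction g using Polynomial.induction_on' with
    | add g₁ g₂ h₁ h₂ => rw [mul_add, map_add, map_add, map_add, h₁, h₂, add_smul, smul_add]; abel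
    | monomial j s =>
      have hmk : ∀ (k : ℕ) (c : R), AdjoinRoot.mk (X ^ p - C a) (monomial k c) =
          algebraMap R (Sa p R a) c * AdjoinRoot.root (X ^ p - C a) ^ k := fun k c => by
        rw [← C_mul_X_pow_eq_monomial, map_mul, map_pow, AdjoinRoot.mk_C, AdjoinRoot.mk_X]
        rfl
      rw [monomial_mul_monomial, D₀_monomial, D₀_monomial, D₀_monomial, hmk, hmk, Derivation.leibniz]
      refine Prod.ext ?_ ?_
      · simp only [Prod.fst_add, Prod.smul_fst, TensorProduct.smul_tmul', smul_eq_mul,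
          TensorProduct.tmul_add, ← TensorProduct.smul_tmul, Algebra.smul_def, pow_add]
        congr 2 <;> ring
      · simp only [Prod.snd_add, Prod.smul_snd, smul_eq_mul, Algebra.smul_def, map_mul]
        rcases i with _ | i <;> rcases j with _ | j <;> simp [pow_succ, ← add_assoc, add_right_comm] <;> ring

theorem D₀_rel_mem : D₀ p Λ R a (X ^ p - C a) ∈ K p Λ R a := by
  haveI : CharP (Sa p R a) p := by
    have hinj : Function.Injective (algebraMap R (Sa p R a)) := by
      intro x y hxy
      have := congrArg (AdjoinRoot.modByMonicHom (monic p R a)) hxy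
      simp only [AdjoinRoot.algebraMap_eq, ← AdjoinRoot.mk_C, AdjoinRoot.modByMonicHom_mk] at this
      haveI hnt : Nontrivial R := CharP.nontrivial_of_char_ne_one (v := p) (Fact.out : p.Prime).ne_one
      have hd : ∀ z : R, (C z).degree < (X ^ p - C a : R[X]).degree := fun z => by
        rw [degree_X_pow_sub_C (Fact.out : p.Prime).pos]
        exact degree_C_le.trans_lt (by exact_mod_cast (Fact.out : p.Prime).pos)
      rwa [(modByMonic_eq_self_iff (monic p R a)).2 (hd x), (modByMonic_eq_self_iff (monic p R a)).2 (hd y),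
        C_inj] at this
    exact charP_of_injective_algebraMap hinj p
  rw [map_sub, show D₀ p Λ R a (X ^ p) = D₀ p Λ R a (monomial p 1) from congrArg _ (X_pow_eq_monomial p),
    show D₀ p Λ R a (C a) = D₀ p Λ R a (monomial 0 a) from rfl, D₀_monomial, D₀_monomial, Derivation.map_one_eq_zero,
    TensorProduct.tmul_zero, CharP.cast_eq_zero, zero_mul, smul_zero, Nat.cast_zero, zero_mul, smul_zero,
    pow_zero]
  refine Submodule.mem_span_singleton.2 ⟨-1, ?_⟩
  simp [eA]

/-- The inverse of the presentation, as a derivation. -/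
def Dq : Derivation Λ (Sa p R a) (La p Λ R a ⧸ K p Λ R a) where
  toLinearMap := ((Submodule.mkQ (K p Λ R a)).restrictScalars Λ) ∘ₗ D₀ p Λ R a ∘ₗ
    (AdjoinRoot.modByMonicHom (monic p R a)).restrictScalars Λ
  map_one_eq_zero' := by
    have h : D₀ p Λ R a 1 = 0 := by
      rw [← monomial_zero_one, D₀_monomial, Derivation.map_one_eq_zero, TensorProduct.tmul_zero, Nat.cast_zero,
        zero_mul, smul_zero]
      rfl
    show Submodule.Quotient.mk (D₀ p Λ R a (AdjoinRoot.modByMonicHom (monic p R a) 1)) = 0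
    rw [← map_one (AdjoinRoot.mk (X ^ p - C a)), AdjoinRoot.modByMonicHom_mk]
    exact (aux 1).trans (by rw [h]; rfl)
  leibniz' x y := by
    induction x using AdjoinRoot.induction_on with | ih f => ?_
    induction y using AdjoinRoot.induction_on with | ih g => ?_
    show Submodule.Quotient.mk (D₀ p Λ R a (AdjoinRoot.modByMonicHom (monic p R a) (AdjoinRoot.mk _ f * AdjoinRoot.mk _ g))) =
      AdjoinRoot.mk _ f • Submodule.Quotient.mk (D₀ p Λ R a (AdjoinRoot.modByMonicHom (monic p R a) (AdjoinRoot.mk _ g))) +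
      AdjoinRoot.mk _ g • Submodule.Quotient.mk (D₀ p Λ R a (AdjoinRoot.modByMonicHom (monic p R a) (AdjoinRoot.mk _ f)))
    rw [← map_mul, AdjoinRoot.modByMonicHom_mk, AdjoinRoot.modByMonicHom_mk, AdjoinRoot.modByMonicHom_mk,
      aux, aux, aux, D₀_mul, ← Submodule.Quotient.mk_smul, ← Submodule.Quotient.mk_smul, ← Submodule.Quotient.mk_add]
where
  aux : ∀ f : R[X], (Submodule.Quotient.mk (D₀ p Λ R a (f %ₘ (X ^ p - C a))) : La p Λ R a ⧸ K p Λ R a) =
      Submodule.Quotient.mk (D₀ p Λ R a f) := fun f => by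
    rw [Submodule.Quotient.eq]
    have h : f %ₘ (X ^ p - C a) - f = -((X ^ p - C a) * (f /ₘ (X ^ p - C a))) := by
      linear_combination modByMonic_add_div f (X ^ p - C a)
    rw [← map_sub, h, map_neg, D₀_mul, AdjoinRoot.mk_self, zero_smul, zero_add]
    exact neg_mem (Submodule.smul_mem _ _ (D₀_rel_mem p Λ R a))

/-- The inverse of the presentation. -/
def φ : Ω[Sa p R a⁄Λ] →ₗ[Sa p R a] La p Λ R a ⧸ K p Λ R a := (Dq p Λ R a).liftKaehlerDifferential

theorem φ_D_mk (f : R[X]) : φ p Λ R a (KaehlerDifferential.D Λ _ (AdjoinRoot.mk _ f)) =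
    Submodule.Quotient.mk (D₀ p Λ R a f) :=
  (Derivation.liftKaehlerDifferential_comp_D _ _).trans (Dq.aux p Λ R a f)

theorem φ_π : φ p Λ R a ∘ₗ π p Λ R a = Submodule.mkQ (K p Λ R a) := by
  refine LinearMap.prod_ext ?_ (LinearMap.ext_ring ?_)
  · refine LinearMap.ext fun e => ?_
    induction e using TensorProduct.induction_on with
    | zero => rw [map_zero, map_zero]
    | add x y hx hy => rw [map_add, map_add, hx, hy]
    | tmul s η =>
      have hη : η ∈ Submodule.span R (Set.range (KaehlerDifferential.D Λ R)) := by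
        rw [KaehlerDifferential.span_range_derivation]; trivial
      induction hη using Submodule.span_induction generalizing s with
      | zero => rw [TensorProduct.tmul_zero, map_zero, map_zero]
      | add x y _ _ hx hy => rw [TensorProduct.tmul_add, map_add, map_add, hx, hy]
      | smul r x _ hx => rw [← TensorProduct.smul_tmul]; exact hx _
      | mem x hx =>
        obtain ⟨r, rfl⟩ := hx
        rw [show s ⊗ₜ[R] KaehlerDifferential.D Λ R r = s • ((1 : Sa p R a) ⊗ₜ[R] KaehlerDifferential.D Λ R r) by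
          rw [TensorProduct.smul_tmul', smul_eq_mul, mul_one], map_smul, map_smul]
        congr 1
        simp only [LinearMap.comp_apply, π, LinearMap.inl_apply, LinearMap.coprod_apply, map_zero, add_zero,
          KaehlerDifferential.mapBaseChange_tmul, one_smul, KaehlerDifferential.map_D, AdjoinRoot.algebraMap_eq,
          ← AdjoinRoot.mk_C, φ_D_mk, Submodule.mkQ_apply]
        rw [show D₀ p Λ R a (C r) = D₀ p Λ R a (monomial 0 r) from rfl, D₀_monomial]
        simp
  · simp only [LinearMap.comp_apply, π, LinearMap.inr_apply, LinearMap.coprod_apply, map_zero, zero_add,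
      LinearMap.toSpanSingleton_apply, one_smul, Submodule.mkQ_apply]
    rw [← AdjoinRoot.mk_X, φ_D_mk, show D₀ p Λ R a X = D₀ p Λ R a (monomial 1 1) from congrArg _ monomial_one_one_eq_X.symm,
      D₀_monomial]
    simp

theorem π_surjective : Function.Surjective (π p Λ R a) := by
  rw [← LinearMap.range_eq_top, eq_top_iff, ← KaehlerDifferential.span_range_derivation, Submodule.span_le]
  rintro _ ⟨x, rfl⟩
  induction x using AdjoinRoot.induction_on with | ih f => ?_
  induction f using Polynomial.induction_on with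
  | C r =>
    exact ⟨((1 : Sa p R a) ⊗ₜ KaehlerDifferential.D Λ R r, 0), by
      simp [π, AdjoinRoot.mk_C, AdjoinRoot.algebraMap_eq]⟩
  | add f g hf hg => rw [map_add, map_add]; exact add_mem hf hg
  | monomial n r h =>
    have hX : KaehlerDifferential.D Λ (Sa p R a) (AdjoinRoot.root _) ∈ LinearMap.range (π p Λ R a) :=
      ⟨(0, 1), by simp [π]⟩
    rw [pow_succ, ← mul_assoc, map_mul, AdjoinRoot.mk_X, Derivation.leibniz]
    exact add_mem (Submodule.smul_mem _ _ hX) (Submodule.smul_mem _ _ h)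

theorem ker_π {l : La p Λ R a} (hl : π p Λ R a l = 0) : l ∈ K p Λ R a := by
  have h := LinearMap.congr_fun (φ_π p Λ R a) l
  rw [LinearMap.comp_apply, hl, map_zero, Submodule.mkQ_apply] at h
  exact (Submodule.Quotient.mk_eq_zero _).1 h.symm

/-- `η + s·da`. -/
def h₁ : La p Λ R a →ₗ[Sa p R a] Ea p Λ R a :=
  LinearMap.id.coprod (LinearMap.toSpanSingleton _ _ (eA p Λ R a))

/-- The lifted trace. -/
def Ψ (n : ℕ) : La p Λ R a [⋀^Fin n]→ₗ[Sa p R a] Sa p R a ⊗[R] ExteriorAlgebra R Ω[R⁄Λ] :=
  (wedge R (Sa p R a) Ω[R⁄Λ] n).compLinearMap (h₁ p Λ R a) -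
    (wedge R (Sa p R a) Ω[R⁄Λ] n).compLinearMap (LinearMap.fst _ _ _)

theorem Ψ_eq_zero {n : ℕ} (l : Fin n → La p Λ R a) (i : Fin n) (hi : π p Λ R a (l i) = 0) :
    Ψ p Λ R a n l = 0 := by
  obtain ⟨c, hc⟩ := Submodule.mem_span_singleton.1 (ker_π p Λ R a hi)
  refine sub_eq_zero.2 (wedge_eq_of_mem (eA p Λ R a) _ _ i ?_ ?_ fun j => ?_)
  · simp [h₁, ← hc]
  · exact Submodule.mem_span_singleton.2 ⟨c, by simp [h₁, ← hc]⟩
  · exact Submodule.mem_span_singleton.2 ⟨-(l j).2, by simp [h₁]⟩

/-- The `S`-linear part of the trace. -/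
def Φ (n : ℕ) : ⋀[Sa p R a]^n Ω[Sa p R a⁄Λ] →ₗ[Sa p R a] Sa p R a ⊗[R] ExteriorAlgebra R Ω[R⁄Λ] :=
  exteriorPower.alternatingMapLinearEquiv
    (descend (π p Λ R a) (π_surjective p Λ R a) (Ψ p Λ R a n) (Ψ_eq_zero p Λ R a))

theorem Φ_ιMulti {n : ℕ} (l : Fin n → La p Λ R a) :
    Φ p Λ R a n (exteriorPower.ιMulti _ n fun i => π p Λ R a (l i)) =
      wedge R _ _ n (fun i => h₁ p Λ R a (l i)) - wedge R _ _ n (fun i => (l i).1) := by
  rw [Φ, exteriorPower.alternatingMapLinearEquiv_apply_ιMulti, descend_apply]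
  rfl

/-- The coefficient of `x ^ (p - 1)`. -/
def coef : Sa p R a →ₗ[R] R := (lcoeff R (p - 1)) ∘ₗ AdjoinRoot.modByMonicHom (monic p R a)

theorem coef_root_pow {i : ℕ} (hi : i < p) :
    coef p R a (AdjoinRoot.root _ ^ i) = if i = p - 1 then 1 else 0 := by
  haveI : Nontrivial R := CharP.nontrivial_of_char_ne_one (v := p) (Fact.out : p.Prime).ne_one
  show ((AdjoinRoot.modByMonicHom (monic p R a)) (AdjoinRoot.root _ ^ i)).coeff (p - 1) = _
  rw [← AdjoinRoot.mk_X, ← map_pow, AdjoinRoot.modByMonicHom_mk,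
    (modByMonic_eq_self_iff (monic p R a)).2 (by
      rw [degree_X_pow_sub_C (Fact.out : p.Prime).pos, degree_X_pow]; exact_mod_cast hi), coeff_X_pow]
  exact if_congr eq_comm rfl rfl

/-- Take coefficients in the exterior algebra. -/
def cB : Sa p R a ⊗[R] ExteriorAlgebra R Ω[R⁄Λ] →ₗ[R] ExteriorAlgebra R Ω[R⁄Λ] :=
  (TensorProduct.lid R _).toLinearMap ∘ₗ (coef p R a).rTensor _

theorem cB_tmul (s : Sa p R a) (w : ExteriorAlgebra R Ω[R⁄Λ]) :
    cB p Λ R a (s ⊗ₜ w) = coef p R a s • w := by
  simp [cB]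

theorem cB_mem {n : ℕ} {x : Sa p R a ⊗[R] ExteriorAlgebra R Ω[R⁄Λ]}
    (hx : x ∈ (⋀[R]^n Ω[R⁄Λ]).baseChange (Sa p R a)) : cB p Λ R a x ∈ ⋀[R]^n Ω[R⁄Λ] := by
  obtain ⟨y, rfl⟩ := hx
  induction y with
  | zero => simp
  | add y z hy hz => rw [map_add, map_add]; exact add_mem hy hz
  | tmul s w => rw [LinearMap.baseChange_tmul, cB_tmul]; exact Submodule.smul_mem _ _ w.2

theorem Φ_mem (n : ℕ) (ω : ⋀[Sa p R a]^n Ω[Sa p R a⁄Λ]) :
    Φ p Λ R a n ω ∈ (⋀[R]^n Ω[R⁄Λ]).baseChange (Sa p R a) := by
  have hω : ω ∈ Submodule.span (Sa p R a) (Set.range (exteriorPower.ιMulti (Sa p R a) n (M := Ω[Sa p R a⁄Λ]))) := by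
    rw [exteriorPower.ιMulti_span]; trivial
  induction hω using Submodule.span_induction with
  | mem x hx =>
    obtain ⟨u, rfl⟩ := hx
    choose l hl using fun i => π_surjective p Λ R a (u i)
    obtain rfl : u = fun i => π p Λ R a (l i) := funext fun i => (hl i).symm
    rw [Φ_ιMulti]
    exact sub_mem (wedge_mem _) (wedge_mem _)
  | zero => simp
  | add x y _ _ hx hy => rw [map_add]; exact add_mem hx hy
  | smul c x _ hx => rw [map_smul]; exact Submodule.smul_mem _ _ hx

/-- The trace. -/
def Tr (n : ℕ) : ⋀[Sa p R a]^n Ω[Sa p R a⁄Λ] →+ ⋀[R]^n Ω[R⁄Λ] where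
  toFun ω := ⟨cB p Λ R a (Φ p Λ R a n ω), cB_mem p Λ R a (Φ_mem p Λ R a n ω)⟩
  map_zero' := Subtype.ext (by simp)
  map_add' x y := Subtype.ext (by simp)

theorem Tr_smul (n : ℕ) (r : R) (ω : ⋀[Sa p R a]^n Ω[Sa p R a⁄Λ]) :
    Tr p Λ R a n (algebraMap R (Sa p R a) r • ω) = r • Tr p Λ R a n ω := by
  refine Subtype.ext ?_
  show cB p Λ R a (Φ p Λ R a n (algebraMap R (Sa p R a) r • ω)) = r • cB p Λ R a (Φ p Λ R a n ω)
  rw [map_smul, algebraMap_smul, map_smul]

/-- The trace kills forms coming from `R`. -/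
theorem Tr_pullback {n : ℕ} (s : Sa p R a) (η : Fin n → Ω[R⁄Λ]) :
    Tr p Λ R a n (s • exteriorPower.ιMulti _ n (fun j => KaehlerDifferential.map Λ Λ R (Sa p R a) (η j))) = 0 := by
  refine Subtype.ext ?_
  show cB p Λ R a (Φ p Λ R a n _) = 0
  have e : (fun j => KaehlerDifferential.map Λ Λ R (Sa p R a) (η j)) =
      fun j => π p Λ R a ((1 : Sa p R a) ⊗ₜ η j, 0) := funext fun j => by simp [π]
  rw [e, map_smul, Φ_ιMulti]
  simp [h₁]

/-- The trace on `η₁ ∧ ⋯ ∧ η_t ∧ x^i dx`. -/
theorem Tr_snoc (t : ℕ) (η : Fin t → Ω[R⁄Λ]) {i : ℕ} (hi : i < p) :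
    Tr p Λ R a (t + 1) (exteriorPower.ιMulti _ (t + 1)
      (Fin.snoc (fun j => KaehlerDifferential.map Λ Λ R (Sa p R a) (η j))
        (AdjoinRoot.root (X ^ p - C a) ^ i • KaehlerDifferential.D Λ _ (AdjoinRoot.root (X ^ p - C a))))) =
      (if i = p - 1 then (1 : R) else 0) •
        exteriorPower.ιMulti R (t + 1) (Fin.snoc η (KaehlerDifferential.D Λ R a)) := by
  classical
  let l : Fin (t + 1) → La p Λ R a :=
    Fin.snoc (fun j => ((1 : Sa p R a) ⊗ₜ η j, 0)) (0, AdjoinRoot.root (X ^ p - C a) ^ i)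
  have e : (Fin.snoc (fun j => KaehlerDifferential.map Λ Λ R (Sa p R a) (η j))
      (AdjoinRoot.root (X ^ p - C a) ^ i • KaehlerDifferential.D Λ _ (AdjoinRoot.root (X ^ p - C a))) :
        Fin (t + 1) → Ω[Sa p R a⁄Λ]) = fun j => π p Λ R a (l j) := by
    funext j
    induction j using Fin.lastCases <;> simp [l, π]
  refine Subtype.ext ?_
  show cB p Λ R a (Φ p Λ R a (t + 1) _) = _
  rw [e, Φ_ιMulti, (wedge R (Sa p R a) Ω[R⁄Λ] (t + 1)).map_coord_zero (m := fun j => (l j).1) (Fin.last t) (by simp [l]), sub_zero]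
  let η' : Fin (t + 1) → Ω[R⁄Λ] := Fin.snoc η (KaehlerDifferential.D Λ R a)
  have e2 : (fun j => h₁ p Λ R a (l j)) =
      Function.update (fun j => (1 : Sa p R a) ⊗ₜ[R] η' j) (Fin.last t)
        (AdjoinRoot.root (X ^ p - C a) ^ i • ((1 : Sa p R a) ⊗ₜ[R] η' (Fin.last t))) := by
    funext j
    induction j using Fin.lastCases <;> simp [l, η', h₁, eA, Fin.castSucc_ne_last]
  rw [e2, AlternatingMap.map_update_smul, Function.update_eq_self, wedge_one_tmul, TensorProduct.smul_tmul',
    smul_eq_mul, mul_one, cB_tmul, coef_root_pow p R a hi]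
  rfl

end Groth.Agent.Res23.ExtTrace
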