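import Groth.Prelude.Def_EGA4b
import Groth.Prelude.Def_Pi1
import Groth.Agent.FEt83.ClopenSections
import Groth.Agent.Props58.Comp
import Groth.Agent.VarNormal.TensorCore
import Mathlib

/-! The ring of global sections of a Noetherian normal scheme is normal. -/

set_option autoImplicit false
universe u
open CategoryTheory AlgebraicGeometry TopologicalSpace
open scoped nonZeroDivisors

namespace Groth.Agent.Res23.NormalSections

theorem isOpen_germ_ne_zero {Y : Scheme.{u}} [IsNoetherian Y] (hY : Pi1.IsNormalScheme Y) (s : Γ(Y, ⊤)) :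
    IsOpen {y : Y | Y.presheaf.germ ⊤ y trivial s ≠ 0} := by
  have : ∀ x : Y, _root_.IsReduced (Y.presheaf.stalk x) := fun x => have := (hY x).1; inferInstance
  have := isReduced_of_isReduced_stalk Y
  rw [isOpen_iff_forall_mem_open]
  intro y hy
  let c := irreducibleComponent y
  have hc : c ∈ irreducibleComponents (Y : Type u) := irreducibleComponent_mem_irreducibleComponents y
  have hopen : IsOpen c := by
    have : cᶜ = ⋃₀ (irreducibleComponents (Y : Type u) \ {c}) := by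
      refine Set.Subset.antisymm (fun x hx => ⟨_, ⟨irreducibleComponent_mem_irreducibleComponents x,
        fun h => hx (h ▸ mem_irreducibleComponent)⟩, mem_irreducibleComponent⟩) ?_
      rintro x ⟨Z', ⟨hZ', hne⟩, hx⟩ hxZ
      exact hne (Props58.eq_of_isDomain_stalk x (hY x).1 Z' hZ' c hc hx hxZ)
    rw [← isClosed_compl_iff, this, Set.sUnion_eq_biUnion]
    exact ((NoetherianSpace.finite_irreducibleComponents (α := Y)).subset Set.sdiff_subset).isClosed_biUnion
      fun Z' hZ' => isClosed_of_mem_irreducibleComponents Z' hZ'.1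
  let V : Y.Opens := ⟨c, hopen⟩
  have hyV : y ∈ V := mem_irreducibleComponent
  haveI : Nonempty V.toScheme := ⟨⟨y, hyV⟩⟩
  haveI : IrreducibleSpace V.toScheme := Subtype.irreducibleSpace hc.1
  haveI : AlgebraicGeometry.IsReduced V.toScheme := isReduced_of_isOpenImmersion V.ι
  haveI : IsIntegral V.toScheme := isIntegral_of_irreducibleSpace_of_isReduced _
  refine ⟨c, fun z hz h0 => hy ?_, hopen, hyV⟩
  let zz : V.toScheme := ⟨z, hz⟩
  let yy : V.toScheme := ⟨y, hyV⟩
  have hz' : V.ι.appTop s = 0 := by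
    apply germ_injective_of_isIntegral V.toScheme zz (U := ⊤) trivial
    rw [map_zero]
    refine (Scheme.Hom.germ_stalkMap_apply V.ι ⊤ zz trivial s).symm.trans ?_
    show V.ι.stalkMap zz (Y.presheaf.germ ⊤ z trivial s) = 0
    exact (congrArg (V.ι.stalkMap zz).hom h0).trans (map_zero (V.ι.stalkMap zz).hom)
  apply (ConcreteCategory.bijective_of_isIso (V.ι.stalkMap yy)).1
  refine ((Scheme.Hom.germ_stalkMap_apply V.ι ⊤ yy trivial s).trans ?_).trans (map_zero (V.ι.stalkMap yy).hom).symm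
  show V.toScheme.presheaf.germ ⊤ _ trivial (V.ι.appTop s) = 0
  rw [hz', map_zero]

/-- A nonzerodivisor among the global sections is nonzero in every stalk. -/
theorem germ_ne_zero {Y : Scheme.{u}} [IsNoetherian Y] (hY : Pi1.IsNormalScheme Y) {d : Γ(Y, ⊤)}
    (hd : d ∈ (Γ(Y, ⊤))⁰) (y : Y) : Y.presheaf.germ ⊤ y trivial d ≠ 0 := by
  intro hy
  let Z := {y : Y | Y.presheaf.germ ⊤ y trivial d = 0}
  have hZo : IsOpen Z := by
    rw [isOpen_iff_forall_mem_open]
    intro z hz
    obtain ⟨W, hzW, i₁, i₂, hW⟩ := Y.presheaf.germ_eq (C := CommRingCat) (U := ⊤) (V := ⊤) z trivial trivial d 0 (by rw [map_zero]; exact hz)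
    refine ⟨W, fun w hw => ?_, W.2, hzW⟩
    have := congrArg (Y.presheaf.germ W w hw) hW
    rwa [TopCat.Presheaf.germ_res_apply, TopCat.Presheaf.germ_res_apply, map_zero] at this
  have hZc : IsClosed Z := isOpen_compl_iff.1 (isOpen_germ_ne_zero hY d)
  obtain ⟨e, he, heZ⟩ := FEt83.exists_idempotent_of_isClopen Z ⟨hZc, hZo⟩
  have hed : e * d = 0 := by
    refine TopCat.Presheaf.section_ext Y.sheaf ⊤ _ _ fun z hz => ?_
    show Y.presheaf.germ ⊤ z trivial (e * d) = Y.presheaf.germ ⊤ z trivial 0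
    rw [map_mul, map_zero]
    haveI := (hY z).1
    by_cases hzZ : z ∈ Z
    · rw [show Y.presheaf.germ ⊤ z trivial d = 0 from hzZ, mul_zero]
    · have h1 : ¬ IsUnit (Y.presheaf.germ ⊤ z trivial e) := fun h => hzZ (by
        rw [← heZ]; exact (Y.mem_basicOpen e z trivial).2 h)
      rcases IsIdempotentElem.iff_eq_zero_or_one.1 (he.map (Y.presheaf.germ ⊤ z trivial).hom) with h | h
      · rw [show Y.presheaf.germ ⊤ z trivial e = 0 from h, zero_mul]
      · exact absurd (h ▸ isUnit_one) h1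
  have he0 : e = 0 := (mem_nonZeroDivisors_iff_right.1 hd) e hed
  have hyZ : y ∈ Y.basicOpen e := by
    show y ∈ (Y.basicOpen e : Set Y)
    rw [heZ]; exact hy
  rw [he0, Scheme.basicOpen_zero] at hyZ
  exact hyZ

theorem isNormalRing_appTop {Y : Scheme.{u}} [IsNoetherian Y] (hY : Pi1.IsNormalScheme Y)
    [IsNoetherianRing Γ(Y, ⊤)] : EGA4.IsNormalRing Γ(Y, ⊤) := by
  have : ∀ x : Y, _root_.IsReduced (Y.presheaf.stalk x) := fun x => have := (hY x).1; inferInstance
  have := isReduced_of_isReduced_stalk Y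
  refine VarNormal.isNormalRing_of_finite_minimalPrimes Γ(Y, ⊤) (minimalPrimes.finite_of_isNoetherianRing _) fun x hx => ?_
  obtain ⟨a, ⟨d, hd⟩, rfl⟩ := IsLocalization.exists_mk'_eq (Γ(Y, ⊤))⁰ x
  have hloc : ∀ y : Y, ∃ (V : Y.Opens) (_ : y ∈ V) (t : Γ(Y, V)),
      Y.presheaf.map (homOfLE le_top).op d * t = Y.presheaf.map (homOfLE (le_top : V ≤ ⊤)).op a := by
    intro y
    haveI := (hY y).1
    haveI := (hY y).2
    let K := FractionRing (Y.presheaf.stalk y)
    let g := (Y.presheaf.germ ⊤ y trivial).hom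
    let φ : Γ(Y, ⊤) →+* K := (algebraMap (Y.presheaf.stalk y) K).comp g
    have hu : ∀ z : (Γ(Y, ⊤))⁰, IsUnit (φ z) := fun z => isUnit_iff_ne_zero.2 fun h =>
      germ_ne_zero hY z.2 y ((map_eq_zero_iff _ (IsFractionRing.injective _ K)).1 h)
    let L : FractionRing Γ(Y, ⊤) →+* K := IsLocalization.lift hu
    obtain ⟨p, hp, hpx⟩ := hx
    obtain ⟨b, hb⟩ := (IsIntegrallyClosed.isIntegral_iff (R := Y.presheaf.stalk y) (K := K)
      (x := L (IsLocalization.mk' (FractionRing Γ(Y, ⊤)) a (⟨d, hd⟩ : (Γ(Y, ⊤))⁰)))).1 ⟨p.map g, hp.map _, by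
        rw [Polynomial.eval₂_map, show (algebraMap (Y.presheaf.stalk y) K).comp g =
          L.comp (algebraMap _ (FractionRing Γ(Y, ⊤))) from (IsLocalization.lift_comp hu).symm,
          ← Polynomial.hom_eval₂, hpx, map_zero]⟩
    have hda : g d * b = g a := by
      apply IsFractionRing.injective (Y.presheaf.stalk y) K
      rw [map_mul, hb, show algebraMap (Y.presheaf.stalk y) K (g d) = L (algebraMap _ _ d) from (IsLocalization.lift_eq hu d).symm,
        ← map_mul, IsLocalization.mk'_spec' (FractionRing Γ(Y, ⊤)) a (⟨d, hd⟩ : (Γ(Y, ⊤))⁰)]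
      exact IsLocalization.lift_eq hu a
    obtain ⟨V₀, hyV₀, t, rfl⟩ := Y.presheaf.exists_germ_eq b
    have h2 : Y.presheaf.germ V₀ y hyV₀ (Y.presheaf.map (homOfLE le_top).op d * t) =
        Y.presheaf.germ V₀ y hyV₀ (Y.presheaf.map (homOfLE (le_top : V₀ ≤ ⊤)).op a) := by
      rw [map_mul, TopCat.Presheaf.germ_res_apply, TopCat.Presheaf.germ_res_apply]
      exact hda
    obtain ⟨W, hyW, i₁, i₂, hW⟩ := Y.presheaf.germ_eq (C := CommRingCat) y hyV₀ hyV₀ _ _ h2
    refine ⟨W, hyW, Y.presheaf.map i₁.op t, ?_⟩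
    rw [map_mul] at hW
    have e : ∀ (j : W ⟶ V₀) (x : Γ(Y, ⊤)), Y.presheaf.map j.op (Y.presheaf.map (homOfLE (le_top : V₀ ≤ ⊤)).op x) =
        Y.presheaf.map (homOfLE (le_top : W ≤ ⊤)).op x := fun j x => by
      rw [← CommRingCat.comp_apply, ← Functor.map_comp]; rfl
    rw [e i₁ d, e i₂ a] at hW
    exact hW
  choose V hV t ht using hloc
  have hcompat : TopCat.Presheaf.IsCompatible Y.presheaf V t := by
    intro x y
    refine TopCat.Presheaf.section_ext Y.sheaf (V x ⊓ V y) _ _ fun z hz => ?_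
    haveI := (hY z).1
    show Y.presheaf.germ (V x ⊓ V y) z hz _ = Y.presheaf.germ (V x ⊓ V y) z hz _
    refine mul_left_cancel₀ (germ_ne_zero hY hd z) ?_
    have e1 := congrArg (Y.presheaf.germ (V x) z hz.1) (ht x)
    have e2 := congrArg (Y.presheaf.germ (V y) z hz.2) (ht y)
    rw [map_mul, TopCat.Presheaf.germ_res_apply, TopCat.Presheaf.germ_res_apply] at e1 e2
    show Y.presheaf.germ ⊤ z trivial d * Y.presheaf.germ (V x ⊓ V y) z hz _ = Y.presheaf.germ ⊤ z trivial d * Y.presheaf.germ (V x ⊓ V y) z hz _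
    erw [TopCat.Presheaf.germ_res_apply, TopCat.Presheaf.germ_res_apply]
    exact e1.trans e2.symm
  obtain ⟨c, hc, -⟩ := Y.sheaf.existsUnique_gluing' V ⊤ (fun y => homOfLE le_top)
    (fun y _ => Opens.mem_iSup.2 ⟨y, hV y⟩) t hcompat
  obtain ⟨c, hc⟩ : ∃ c' : Γ(Y, ⊤), ∀ y, Y.presheaf.map (homOfLE (le_top : V y ≤ ⊤)).op c' = t y := ⟨c, hc⟩
  have hdc : d * c = a := by
    refine TopCat.Presheaf.section_ext Y.sheaf ⊤ _ _ fun z hz => ?_
    show Y.presheaf.germ ⊤ z trivial (d * c) = Y.presheaf.germ ⊤ z trivial a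
    have e1 := congrArg (Y.presheaf.germ (V z) z (hV z)) (ht z)
    rw [map_mul, TopCat.Presheaf.germ_res_apply, TopCat.Presheaf.germ_res_apply, ← hc z] at e1
    rw [map_mul, ← e1]
    congr 1
    exact (TopCat.Presheaf.germ_res_apply Y.presheaf _ _ _ c).symm
  refine ⟨c, ?_⟩
  rw [IsLocalization.eq_mk'_iff_mul_eq, ← map_mul, mul_comm c d, hdc]

end Groth.Agent.Res23.NormalSections
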