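import Groth.Prelude.Def_EGA4b
import Groth.Agent.S6295
import Groth.Agent.EGA4H10.IntClosApp
import Groth.Agent.Ega11.GeomNormalField
import Groth.Agent.VarNormal.TensorCore
import Groth.Agent.VarNormal.GeomNormal
import Groth.Agent.VarBranch.Steps
import Groth.Agent.Res23.BCCompl
import Groth.Agent.CAlg5.ComplEquiv
import Groth.Agent.SGA3a.FiniteComplete
import Mathlib

/-!
A finite normal algebra contained in an algebra with normal completion has normal completion.
-/

set_option autoImplicit false
universe u
open scoped TensorProduct nonZeroDivisors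
open CategoryTheory

namespace Groth.Agent.Res23.NormalSub

/-- A finite torsion-free module over a reduced Noetherian ring embeds into a free one. -/
theorem exists_embedding_free (B : Type u) [CommRing B] [IsReduced B] [IsNoetherianRing B]
    (M : Type u) [AddCommGroup M] [Module B M] [Module.Finite B M]
    (htf : ∀ b ∈ B⁰, ∀ m : M, b • m = 0 → m = 0) :
    ∃ (r : ℕ) (φ : M →ₗ[B] (Fin r → B)), Function.Injective φ := by
  obtain ⟨r, g, hg⟩ := Module.Finite.exists_fin (R := B) (M := M →ₗ[B] B)
  refine ⟨r, LinearMap.pi g, (injective_iff_map_eq_zero _).2 fun m hm => ?_⟩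
  have hdual : ∀ φ : M →ₗ[B] B, φ m = 0 := fun φ => by
    have hφ : φ ∈ Submodule.span B (Set.range g) := hg ▸ Submodule.mem_top
    induction hφ using Submodule.span_induction with
    | mem y hy => obtain ⟨i, rfl⟩ := hy; exact congrFun hm i
    | zero => rfl
    | add y z _ _ hy hz => simp [hy, hz]
    | smul b y _ hy => simp [hy]
  by_contra hne
  let J : Ideal B := (LinearMap.toSpanSingleton B M m).ker
  have hfin : (minimalPrimes B).Finite := minimalPrimes.finite_of_isNoetherianRing B
  have hsub : (J : Set B) ⊆ ⋃ p ∈ (hfin.toFinset : Set (Ideal B)), (p : Set B) := by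
    intro b hb
    have hb' : b ∉ B⁰ := fun h => hne (htf b h m hb)
    obtain ⟨p, hp, hbp⟩ := ((S6295.result B).2.2 b).1 hb'
    exact Set.mem_biUnion (hfin.mem_toFinset.2 hp) hbp
  obtain ⟨p, hp, hJp⟩ := (Ideal.subset_union_prime ⊥ ⊥ fun p hp _ _ => (hfin.mem_toFinset.1 hp).1.1).1 hsub
  have hpmin := hfin.mem_toFinset.1 hp
  haveI := hpmin.1.1
  let K := Localization.AtPrime p
  letI : Field K := ((S6295.result B).1 ⟨p, hpmin.1.1⟩ hpmin).toField
  let mk := LocalizedModule.mkLinearMap p.primeCompl M
  have hx : mk m ≠ 0 := fun h => by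
    obtain ⟨⟨c, hc⟩, hcm⟩ := (IsLocalizedModule.eq_zero_iff p.primeCompl mk).1 h
    exact hc (hJp hcm)
  obtain ⟨ψ, hψ⟩ : ∃ ψ : Module.Dual K (LocalizedModule p.primeCompl M), ψ (mk m) ≠ 0 := by
    by_contra h
    push Not at h
    exact hx ((Module.forall_dual_apply_eq_zero_iff K _).1 h)
  let g' : M →ₗ[B] K := (ψ.restrictScalars B).comp mk
  haveI : Module.FinitePresentation B M := Module.finitePresentation_of_finite B M
  obtain ⟨φ, s, hφ⟩ := Module.FinitePresentation.exists_lift_of_isLocalizedModule p.primeCompl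
    (Algebra.linearMap B K) g'
  have h1 := LinearMap.congr_fun hφ m
  rw [LinearMap.comp_apply, hdual φ, map_zero] at h1
  have h2 : algebraMap B K (s : B) * ψ (mk m) = 0 := by
    rw [← Algebra.smul_def]
    exact h1.symm
  rcases mul_eq_zero.1 h2 with h | h
  · exact (IsLocalization.map_units K s).ne_zero h
  · exact hψ h

/-- In a Noetherian normal ring the elements killed by a nonzerodivisor of a subring form an ideal
generated by an idempotent. -/
theorem exists_idempotent_torsion {B C : Type u} [CommRing B] [CommRing C] [IsNoetherianRing C] [Algebra B C]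
    (hC : EGA4.IsNormalRing C) :
    ∃ e : C, IsIdempotentElem e ∧ ∀ x : C, x ∈ Ideal.span {e} ↔ ∃ b ∈ B⁰, algebraMap B C b * x = 0 := by
  let T : Ideal C :=
    { carrier := {x | ∃ b ∈ B⁰, algebraMap B C b * x = 0}
      add_mem' := by
        rintro x y ⟨b, hb, hbx⟩ ⟨c, hc, hcy⟩
        refine ⟨b * c, mul_mem hb hc, ?_⟩
        rw [map_mul]
        linear_combination algebraMap B C c * hbx + algebraMap B C b * hcy
      zero_mem' := ⟨1, one_mem _, mul_zero _⟩
      smul_mem' := by
        rintro a x ⟨b, hb, hbx⟩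
        exact ⟨b, hb, by rw [smul_eq_mul, mul_left_comm, hbx, mul_zero]⟩ }
  have hT : IsIdempotentElem T := le_antisymm Ideal.mul_le_left fun x hx => by
    refine Ideal.mem_of_localization_maximal fun P _ => ?_
    haveI := (hC P).1
    obtain ⟨b, hb, hbx⟩ := hx
    by_cases h : algebraMap C (Localization.AtPrime P) (algebraMap B C b) = 0
    · obtain ⟨⟨s, hs⟩, hsb⟩ := (IsLocalization.map_eq_zero_iff P.primeCompl _ _).1 h
      have hsT : s ∈ T := ⟨b, hb, by rw [mul_comm]; exact hsb⟩
      rw [Ideal.map_mul]
      have hu : IsUnit (algebraMap C (Localization.AtPrime P) s) := IsLocalization.map_units _ (⟨s, hs⟩ : P.primeCompl)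
      rw [Ideal.eq_top_of_isUnit_mem (T.map (algebraMap C (Localization.AtPrime P))) (Ideal.mem_map_of_mem _ hsT) hu, Ideal.top_mul]
      exact Submodule.mem_top
    · have h0 : algebraMap C (Localization.AtPrime P) x = 0 := by
        have h1 := congrArg (algebraMap C (Localization.AtPrime P)) hbx
        rw [map_mul, map_zero] at h1
        exact (mul_eq_zero.1 h1).resolve_left h
      rw [h0]; exact zero_mem _
  obtain ⟨e, he, hTe⟩ := (Ideal.isIdempotentElem_iff_of_fg T (IsNoetherian.noetherian T)).1 hT
  exact ⟨e, he, fun x => by rw [← Ideal.submodule_span_eq, ← hTe]; rfl⟩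

/-- The completion of a finite algebra as a tensor product. -/
theorem exists_tensor_equiv (A : Type u) [CommRing A] [IsLocalRing A] [IsNoetherianRing A]
    (D : Type u) [CommRing D] [Algebra A D] [Module.Finite A D] :
    Nonempty (AdicCompletion (IsLocalRing.maximalIdeal A) A ⊗[A] D ≃+*
      AdicCompletion ((IsLocalRing.maximalIdeal A).map (algebraMap A D)) D) := by
  let m := IsLocalRing.maximalIdeal A
  let A' := AdicCompletion m A
  haveI : IsNoetherianRing A' := CAlg1.isNoetherianRing_adicCompletion _ (IsNoetherian.noetherian _)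
  let θ : D →ₐ[A] A' ⊗[A] D := Algebra.TensorProduct.includeRight
  haveI : IsAdicComplete (IsLocalRing.maximalIdeal A') A' := by
    infer_instance
  have hmap : (IsLocalRing.maximalIdeal A').map (algebraMap A' (A' ⊗[A] D)) = m.map (algebraMap A (A' ⊗[A] D)) := by
    rw [AdicCompletion.maximalIdeal_eq_map, Ideal.map_map, ← IsScalarTower.algebraMap_eq]
  haveI hcompl : IsAdicComplete (m.map (algebraMap A (A' ⊗[A] D))) (A' ⊗[A] D) :=
    hmap ▸ SGA3a.isAdicComplete_map_of_finite (A := A') (A' ⊗[A] D)
  have hθ : CAlg5.BijMod m θ := by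
    have hp := (CommRingCat.isPushout_tensorProduct A D A')
    let e := (Algebra.TensorProduct.comm A D A').toRingEquiv.toCommRingCatIso
    have hsq : IsPushout (CommRingCat.ofHom (algebraMap A D)) (CommRingCat.ofHom (algebraMap A A'))
        (CommRingCat.ofHom θ.toRingHom) (CommRingCat.ofHom (algebraMap A' (A' ⊗[A] D))) := by
      refine IsPushout.of_iso hp (Iso.refl _) (Iso.refl _) (Iso.refl _) e ?_ ?_ ?_ ?_
      · simp
      · simp
      · ext d; rfl
      · ext a; rfl
    have key : ∀ n, ((m ^ n).map (algebraMap A D)).map θ.toRingHom = (m.map (algebraMap A (A' ⊗[A] D))) ^ n := fun n => by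
      rw [Ideal.map_map, Ideal.map_pow]
      exact congrArg (fun f => Ideal.map f m ^ n) θ.comp_algebraMap
    have hquot : ∀ n, Function.Surjective ((Ideal.Quotient.mk (((m ^ n).map (algebraMap A D)).map θ.toRingHom)).comp θ.toRingHom) ∧
        (((m ^ n).map (algebraMap A D)).map θ.toRingHom).comap θ.toRingHom ≤ (m ^ n).map (algebraMap A D) := fun n => by
      refine BCCompl.quot_of_pushout hsq (m ^ n) (AdicCompletion.evalₐ m n).toRingHom
        (RingHom.ext fun a => (AdicCompletion.evalₐ m n).commutes a) fun d hd => ?_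
      have h0 : AdicCompletion.evalₐ m n d = 0 := hd
      have h1 : AdicCompletion.eval m A n d = 0 := by
        rw [← AdicCompletion.factor_evalₐ_eq_eval m _ (by rw [smul_eq_mul, Ideal.mul_top]), h0, map_zero]
      rw [← LinearMap.mem_ker, ← AdicCompletion.pow_smul_top_eq_ker_eval (IsNoetherian.noetherian _),
        Ideal.smul_top_eq_map] at h1
      exact h1
    refine ⟨fun n x => ?_, fun n d hd => ?_⟩
    · obtain ⟨d, hd⟩ := (hquot n).1 (Ideal.Quotient.mk _ x)
      refine ⟨d, ?_⟩
      rw [← key]
      exact Ideal.Quotient.eq.1 hd.symm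
    · rw [← Ideal.map_pow]
      refine (hquot n).2 ?_
      rw [← key] at hd
      exact hd
  obtain ⟨e, -⟩ := CAlg5.exists_equiv θ hθ
  exact ⟨e⟩

set_option maxHeartbeats 1000000 in
/-- Normality descends to a finite subalgebra after flat base change. -/
theorem isNormalRing_tensor_of_injective {A F B C : Type u} [CommRing A] [CommRing F] [Algebra A F] [Module.Flat A F]
    [CommRing B] [CommRing C] [Algebra A B] [Algebra A C] [Algebra B C] [IsScalarTower A B C]
    [IsNoetherianRing B] [IsNoetherianRing (F ⊗[A] B)] [Module.Finite B C] (hinj : Function.Injective (algebraMap B C))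
    (hB : EGA4.IsNormalRing B) (htf : ∀ b ∈ B⁰, ∀ c : C, algebraMap B C b * c = 0 → c = 0)
    (hC : EGA4.IsNormalRing (F ⊗[A] C)) : EGA4.IsNormalRing (F ⊗[A] B) := by
  haveI : IsReduced B := VarBranch.isReduced_of_isNormalRing hB
  haveI : IsReduced (F ⊗[A] C) := VarBranch.isReduced_of_isNormalRing hC
  let β : F ⊗[A] B →ₐ[A] F ⊗[A] C := Algebra.TensorProduct.map (AlgHom.id A F) (IsScalarTower.toAlgHom A B C)
  have hβv : ∀ v : F ⊗[A] B, β v = (IsScalarTower.toAlgHom A B C).toLinearMap.lTensor F v := fun v => by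
    induction v with
    | zero => simp
    | add v w hv hw => simp only [map_add, hv, hw]
    | tmul f b => simp only [β, Algebra.TensorProduct.map_tmul, LinearMap.lTensor_tmul]; rfl
  have hβ : Function.Injective β := fun u v huv => Module.Flat.lTensor_preserves_injective_linearMap
    (IsScalarTower.toAlgHom A B C).toLinearMap hinj (by rw [← hβv, ← hβv, huv])
  haveI : IsReduced (F ⊗[A] B) := isReduced_of_injective β hβ
  let M := C ⧸ LinearMap.range (Algebra.linearMap B C)
  -- the two torsion-free modules
  have htfM : ∀ b ∈ B⁰, ∀ z : M, b • z = 0 → z = 0 := by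
    intro b hb z hz
    obtain ⟨c, rfl⟩ := Submodule.mkQ_surjective _ z
    rw [← map_smul, Submodule.mkQ_apply, Submodule.Quotient.mk_eq_zero] at hz
    obtain ⟨y, hy⟩ := hz
    rw [Algebra.linearMap_apply, Algebra.smul_def] at hy
    obtain ⟨p, hp, hpc⟩ := Algebra.IsIntegral.isIntegral (R := B) c
    have hy' : IsIntegral B (IsLocalization.mk' (FractionRing B) y (⟨b, hb⟩ : B⁰)) := by
      refine ⟨p, hp, ?_⟩
      have h1 : Polynomial.eval₂ (RingHom.id B) y (p.scaleRoots b) = 0 := by
        apply hinj
        rw [map_zero, Polynomial.hom_eval₂, RingHom.comp_id, hy]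
        exact Polynomial.scaleRoots_eval₂_eq_zero _ hpc
      have hspec : algebraMap B (FractionRing B) b * IsLocalization.mk' (FractionRing B) y (⟨b, hb⟩ : B⁰) =
          algebraMap B (FractionRing B) y := IsLocalization.mk'_spec' (FractionRing B) y (⟨b, hb⟩ : B⁰)
      have h2 := congrArg (algebraMap B (FractionRing B)) h1
      rw [map_zero, Polynomial.hom_eval₂, RingHom.comp_id, ← hspec, Polynomial.scaleRoots_eval₂_mul] at h2
      exact (((IsLocalization.map_units (FractionRing B) (⟨b, hb⟩ : B⁰)).pow _).mul_right_eq_zero).1 h2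
    obtain ⟨w, hw⟩ := EGA4H10.IntClosApp.mem_range_of_isNormalRing hB (FractionRing B) _ hy'
    have hbw : y = b * w := by
      apply IsFractionRing.injective B (FractionRing B)
      rw [map_mul, hw]
      exact (IsLocalization.mk'_spec' (FractionRing B) y (⟨b, hb⟩ : B⁰)).symm
    have : algebraMap B C b * (c - algebraMap B C w) = 0 := by
      rw [mul_sub, ← map_mul, ← hbw, hy, sub_self]
    rw [Submodule.mkQ_apply, Submodule.Quotient.mk_eq_zero]
    exact ⟨w, (sub_eq_zero.1 (htf b hb _ this)).symm⟩
  obtain ⟨rC, φC, hφC⟩ := exists_embedding_free B C fun b hb c h => htf b hb c (by rw [← Algebra.smul_def]; exact h)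
  obtain ⟨rM, φM, hφM⟩ := exists_embedding_free B M htfM
  have hjoint : ∀ (N : Type u) [AddCommGroup N] [Module A N] [Module B N] [IsScalarTower A B N] (r : ℕ)
      (φ : N →ₗ[B] (Fin r → B)), Function.Injective φ → ∀ z : F ⊗[A] N,
      (∀ i, (((LinearMap.proj i).comp φ).restrictScalars A).lTensor F z = 0) → z = 0 := by
    intro N _ _ _ _ r φ hφ z hz
    apply Module.Flat.lTensor_preserves_injective_linearMap (M := F) (φ.restrictScalars A) hφ
    rw [map_zero]
    let ε := TensorProduct.piRight A A F (fun _ : Fin r => B)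
    apply ε.injective
    rw [map_zero]
    funext i
    have h : ∀ w : F ⊗[A] N, ε ((φ.restrictScalars A).lTensor F w) i =
        (((LinearMap.proj i).comp φ).restrictScalars A).lTensor F w := fun w => by
      induction w with
      | zero => simp
      | tmul a b => simp [ε]
      | add u v hu hv => simp only [map_add, Pi.add_apply, hu, hv]
    rw [h]; exact hz i
  have hlin : ∀ (ψ : C →ₗ[B] B) (u : F ⊗[A] B) (c : F ⊗[A] C),
      (ψ.restrictScalars A).lTensor F (β u * c) = u * (ψ.restrictScalars A).lTensor F c := fun ψ u c => by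
    induction u with
    | zero => simp
    | add v w hv hw => simp only [map_add, add_mul, hv, hw]
    | tmul f b =>
      induction c with
      | zero => simp
      | add v w hv hw => simp only [map_add, mul_add, hv, hw]
      | tmul f' c =>
        simp only [β, Algebra.TensorProduct.map_tmul, AlgHom.coe_id, id_eq, IsScalarTower.coe_toAlgHom',
          Algebra.TensorProduct.tmul_mul_tmul, LinearMap.lTensor_tmul, LinearMap.restrictScalars_apply]
        rw [← Algebra.smul_def, map_smul, smul_eq_mul]
  have hdz : ∀ d ∈ (F ⊗[A] B)⁰, ∀ c : F ⊗[A] C, β d * c = 0 → c = 0 := fun d hd c hc =>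
    hjoint C rC φC hφC c fun i => by
      refine (mem_nonZeroDivisors_iff_right.1 hd) _ ?_
      rw [mul_comm, ← hlin, hc, map_zero]
  refine VarNormal.isNormalRing_of_finite_minimalPrimes _ (minimalPrimes.finite_of_isNoetherianRing _) fun x hx => ?_
  obtain ⟨y, ⟨d, hd⟩, rfl⟩ := IsLocalization.exists_mk'_eq (F ⊗[A] B)⁰ x
  have hle : (F ⊗[A] B)⁰ ≤ Submonoid.comap β.toRingHom (F ⊗[A] C)⁰ := fun e he =>
    mem_nonZeroDivisors_iff_right.2 fun c hc => hdz e he c (by rw [mul_comm]; exact hc)
  let γ : FractionRing (F ⊗[A] B) →+* FractionRing (F ⊗[A] C) :=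
    IsLocalization.map (FractionRing (F ⊗[A] C)) β.toRingHom hle
  have hγ : IsIntegral (F ⊗[A] C) (γ (IsLocalization.mk' (FractionRing (F ⊗[A] B)) y (⟨d, hd⟩ : (F ⊗[A] B)⁰))) := by
    obtain ⟨p, hp, hpx⟩ := hx
    refine ⟨p.map β.toRingHom, hp.map _, ?_⟩
    rw [Polynomial.eval₂_map, show (algebraMap (F ⊗[A] C) (FractionRing (F ⊗[A] C))).comp β.toRingHom =
      γ.comp (algebraMap (F ⊗[A] B) (FractionRing (F ⊗[A] B))) from (IsLocalization.map_comp hle).symm,
      ← Polynomial.hom_eval₂, hpx, map_zero]
  obtain ⟨c, hc⟩ := EGA4H10.IntClosApp.mem_range_of_isNormalRing hC (FractionRing (F ⊗[A] C)) _ hγ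
  have hyc : β y = β d * c := by
    apply IsFractionRing.injective (F ⊗[A] C) (FractionRing (F ⊗[A] C))
    have h1 : γ (algebraMap (F ⊗[A] B) (FractionRing (F ⊗[A] B)) d) *
        γ (IsLocalization.mk' (FractionRing (F ⊗[A] B)) y (⟨d, hd⟩ : (F ⊗[A] B)⁰)) =
        γ (algebraMap (F ⊗[A] B) (FractionRing (F ⊗[A] B)) y) := by
      rw [← map_mul]
      exact congrArg γ (IsLocalization.mk'_spec' (FractionRing (F ⊗[A] B)) y (⟨d, hd⟩ : (F ⊗[A] B)⁰))
    simp only [γ, IsLocalization.map_eq] at h1
    rw [map_mul, hc]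
    exact h1.symm
  have hmem : ((LinearMap.range (Algebra.linearMap B C)).mkQ.restrictScalars A).lTensor F c = 0 :=
    hjoint M rM φM hφM _ fun i => by
      refine (mem_nonZeroDivisors_iff_right.1 hd) _ ?_
      let ψ : C →ₗ[B] B := ((LinearMap.proj i).comp φM).comp (LinearMap.range (Algebra.linearMap B C)).mkQ
      have hψ : (((LinearMap.proj i).comp φM).restrictScalars A).lTensor F
          (((LinearMap.range (Algebra.linearMap B C)).mkQ.restrictScalars A).lTensor F c) =
          (ψ.restrictScalars A).lTensor F c := by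
        rw [← LinearMap.lTensor_comp_apply]
        rfl
      rw [hψ, mul_comm, ← hlin, ← hyc]
      have hvanish : ∀ w : F ⊗[A] B, (ψ.restrictScalars A).lTensor F (β w) = 0 := fun w => by
        induction w with
        | zero => simp
        | add v w hv hw => simp only [map_add, hv, hw, add_zero]
        | tmul f b =>
          have h0 : ψ (algebraMap B C b) = 0 := by
            change φM ((LinearMap.range (Algebra.linearMap B C)).mkQ (algebraMap B C b)) i = 0
            rw [Submodule.mkQ_apply, (Submodule.Quotient.mk_eq_zero _).2 (show algebraMap B C b ∈ LinearMap.range (Algebra.linearMap B C) from ⟨b, rfl⟩), map_zero, Pi.zero_apply]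
          simp only [β, Algebra.TensorProduct.map_tmul, AlgHom.coe_id, id_eq, IsScalarTower.coe_toAlgHom',
            LinearMap.lTensor_tmul, LinearMap.restrictScalars_apply, h0, TensorProduct.tmul_zero]
      exact hvanish y
  let π : C →ₗ[A] M := (LinearMap.range (Algebra.linearMap B C)).mkQ.restrictScalars A
  have hπ : Function.Surjective π := fun z => Submodule.mkQ_surjective (LinearMap.range (Algebra.linearMap B C)) z
  have hex0 : Function.Exact (IsScalarTower.toAlgHom A B C).toLinearMap π := fun z =>
    ⟨fun h => (Submodule.Quotient.mk_eq_zero (LinearMap.range (Algebra.linearMap B C))).1 h,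
      fun h => (Submodule.Quotient.mk_eq_zero (LinearMap.range (Algebra.linearMap B C))).2 h⟩
  have hexact : Function.Exact ((IsScalarTower.toAlgHom A B C).toLinearMap.lTensor F) (π.lTensor F) :=
    lTensor_exact F hex0 hπ
  obtain ⟨w, hw⟩ := (hexact c).1 hmem
  refine ⟨w, ?_⟩
  rw [← hβv] at hw
  have hy : y = d * w := hβ (by rw [map_mul, hyc, hw])
  rw [IsLocalization.eq_mk'_iff_mul_eq, hy, mul_comm d w, map_mul]

end Groth.Agent.Res23.NormalSub
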