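import Groth.Agent.NagaNorm57.Field
import Groth.Agent.EGA4H10.CompleteNagata
import Groth.Agent.Unr55.EtAscent
import Groth.Agent.CAlg1.Complete
import Mathlib

/-!
Finiteness of normalizations of domains of finite type over a local ring, generically étale over
it, when the completion is reduced.
-/

set_option autoImplicit false
set_option synthInstance.maxHeartbeats 100000
universe u
open scoped TensorProduct nonZeroDivisors

namespace Groth.Agent.Res23.UnramNorm

attribute [local instance] Algebra.TensorProduct.rightAlgebra in
/-- The base change of a fraction field is a localization. -/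
theorem isLocalization_tensor (A F : Type u) [CommRing A] [CommRing F] [Algebra A F]
    (B L : Type u) [CommRing B] [CommRing L] [Algebra A B] [Algebra A L] [Algebra B L] [IsScalarTower A B L]
    (M : Submonoid B) [IsLocalization M L] :
    letI := (Algebra.TensorProduct.map (AlgHom.id F F) (IsScalarTower.toAlgHom A B L)).toRingHom.toAlgebra
    IsLocalization (M.map (Algebra.TensorProduct.includeRight (R := A) (A := F))) (F ⊗[A] L) := by
  letI := (Algebra.TensorProduct.map (AlgHom.id F F) (IsScalarTower.toAlgHom A B L)).toRingHom.toAlgebra
  haveI : IsScalarTower F (F ⊗[A] B) (F ⊗[A] L) := IsScalarTower.of_algebraMap_eq fun f => by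
    simp [RingHom.algebraMap_toAlgebra]
  exact IsLocalization.tensorProduct_tensorProduct_right A F M L (RingHom.ext fun b => by
    simp [RingHom.algebraMap_toAlgebra])

/-- In a reduced localization of a Nagata ring, integral submodules are finitely generated. -/
theorem fg_of_isIntegral {T W : Type u} [CommRing T] [CommRing W] [Algebra T W] (M : Submonoid T)
    [IsLocalization M W] [IsReduced W] (hT : CAlg.IsNagata T) (S : Submodule T W)
    (hS : ∀ x ∈ S, IsIntegral T x) : S.FG := by
  haveI := hT.1
  haveI : IsNoetherianRing W := IsLocalization.isNoetherianRing M W inferInstance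
  haveI := (minimalPrimes.finite_of_isNoetherianRing W).to_subtype
  haveI : ∀ p : minimalPrimes W, p.1.IsPrime := fun p => p.2.1.1
  haveI : Module.Finite T (integralClosure T W) := by
    refine NagaNorm57.finite_integralClosure_of_pi T hT (fun p : minimalPrimes W => FractionRing (W ⧸ p.1))
      (fun p => (algebraMap (W ⧸ p.1) (FractionRing (W ⧸ p.1))).comp (Ideal.Quotient.mk p.1)) (fun p => ?_) fun w hw => ?_
    · haveI : Algebra.EssFiniteType T W := Algebra.EssFiniteType.of_isLocalization W M
      haveI : Algebra.EssFiniteType (W ⧸ p.1) (FractionRing (W ⧸ p.1)) :=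
        Algebra.EssFiniteType.of_isLocalization (FractionRing (W ⧸ p.1)) (nonZeroDivisors (W ⧸ p.1))
      exact RingHom.EssFiniteType.comp (RingHom.essFiniteType_algebraMap.2 ‹Algebra.EssFiniteType T W›)
        (RingHom.EssFiniteType.comp
          (RingHom.FiniteType.of_surjective (Ideal.Quotient.mk p.1) Ideal.Quotient.mk_surjective).essFiniteType
          (RingHom.essFiniteType_algebraMap.2 ‹Algebra.EssFiniteType (W ⧸ p.1) (FractionRing (W ⧸ p.1))›))
    · have : w ∈ nilradical W := by
        rw [nilradical, ← Ideal.sInf_minimalPrimes, Ideal.mem_sInf]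
        intro p hp
        have h := hw ⟨p, hp⟩
        rw [RingHom.comp_apply, map_eq_zero_iff _ (IsFractionRing.injective _ _), Ideal.Quotient.eq_zero_iff_mem] at h
        exact h
      rwa [nilradical_eq_zero] at this
  haveI : IsNoetherian T (Subalgebra.toSubmodule (integralClosure T W)) :=
    isNoetherian_of_isNoetherianRing_of_finite T (integralClosure T W)
  exact (isNoetherian_submodule.1 ‹IsNoetherian T (Subalgebra.toSubmodule (integralClosure T W))›) S (fun x hx => hS x hx)

/-- The integral closure is finite if the completion of the base makes the generic fibre reduced. -/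
theorem finite_integralClosure (A : Type u) [CommRing A] [IsLocalRing A] [IsNoetherianRing A]
    (B L : Type u) [CommRing B] [IsDomain B] [Field L] [Algebra A B] [Algebra A L] [Algebra B L] [IsScalarTower A B L]
    [Algebra.FiniteType A B] [IsFractionRing B L]
    (hred : IsReduced (AdicCompletion (IsLocalRing.maximalIdeal A) A ⊗[A] L)) :
    Module.Finite B (integralClosure B L) := by
  classical
  let F := AdicCompletion (IsLocalRing.maximalIdeal A) A
  haveI : IsNoetherianRing F := CAlg1.isNoetherianRing_adicCompletion _ (IsNoetherian.noetherian _)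
  haveI : Module.Flat A F := inferInstance
  haveI : Module.FaithfullyFlat A F := Module.FaithfullyFlat.of_flat_of_isLocalHom
  haveI : IsNoetherianRing B := Algebra.FiniteType.isNoetherianRing A B
  let T := F ⊗[A] B
  let W := F ⊗[A] L
  have hT : CAlg.IsNagata T :=
    CAlg1.Nag.isNagata_of_finiteType (R := F) (EGA4H10.isNagata_of_complete F)
  haveI := hT.1
  let β : T →+* W := (Algebra.TensorProduct.map (AlgHom.id F F) (IsScalarTower.toAlgHom A B L)).toRingHom
  letI : Algebra T W := β.toAlgebra
  haveI hloc : IsLocalization (B⁰.map (Algebra.TensorProduct.includeRight (R := A) (A := F))) W :=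
    isLocalization_tensor A F B L B⁰
  haveI := hred
  let ι : integralClosure B L → W := fun z => (1 : F) ⊗ₜ[A] (z : L)
  have hι : ∀ z, ι z ∈ integralClosure T W := fun z => by
    obtain ⟨p, hp, hpz⟩ := z.2
    refine ⟨p.map (Algebra.TensorProduct.includeRight (R := A) (A := F) (B := B)).toRingHom, hp.map _, ?_⟩
    rw [Polynomial.eval₂_map, show (algebraMap T W).comp (Algebra.TensorProduct.includeRight (R := A) (A := F) (B := B)).toRingHom =
      (Algebra.TensorProduct.includeRight (R := A) (A := F) (B := L)).toRingHom.comp (algebraMap B L) from RingHom.ext fun b => by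
        simp [RingHom.algebraMap_toAlgebra, β]
        exact Algebra.TensorProduct.map_tmul _ _ _ _]
    show Polynomial.eval₂ _ ((Algebra.TensorProduct.includeRight (R := A) (A := F) (B := L)).toRingHom (z : L)) p = 0
    rw [← Polynomial.hom_eval₂, hpz, map_zero]
  let S : Submodule T W := Submodule.span T (Set.range ι)
  have hSfg : S.FG := fg_of_isIntegral (B⁰.map (Algebra.TensorProduct.includeRight (R := A) (A := F))) hT S fun x hx =>
    (Submodule.span_le.2 (by rintro _ ⟨z, rfl⟩; exact hι z) : S ≤ Subalgebra.toSubmodule (integralClosure T W)) hx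
  obtain ⟨s, hs, hspan⟩ := (Submodule.fg_span_iff_fg_span_finset_subset (R := T) (Set.range ι)).1 hSfg
  choose z hz using fun w : s => hs w.2
  let M0 : Submodule B L := Submodule.span B (Set.range fun w : s => (z w : L))
  let π : L →ₗ[A] L ⧸ M0 := M0.mkQ.restrictScalars A
  have hkill : ∀ w ∈ S, π.lTensor F w = 0 := by
    let β' : F ⊗[A] B →ₐ[A] F ⊗[A] L := Algebra.TensorProduct.map (AlgHom.id A F) (IsScalarTower.toAlgHom A B L)
    have hlin : ∀ (t : F ⊗[A] B) (w : F ⊗[A] L), π.lTensor F w = 0 → π.lTensor F (β' t * w) = 0 := by
      intro t w hw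
      induction t using TensorProduct.induction_on with
      | zero => simp
      | add a b ha hb => rw [map_add, add_mul, map_add, ha, hb, add_zero]
      | tmul f b =>
        let μ : L ⧸ M0 →ₗ[A] L ⧸ M0 := (LinearMap.lsmul B (L ⧸ M0) b).restrictScalars A
        have key : ∀ v : F ⊗[A] L, π.lTensor F (β' (f ⊗ₜ[A] b) * v) = TensorProduct.map (LinearMap.mulLeft A f) μ (π.lTensor F v) := fun v => by
          induction v using TensorProduct.induction_on with
          | zero => simp
          | add v v' hv hv' => simp only [mul_add, map_add, hv, hv']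
          | tmul f' l =>
            simp only [β', Algebra.TensorProduct.map_tmul, AlgHom.coe_id,
              id_eq, IsScalarTower.coe_toAlgHom', Algebra.TensorProduct.tmul_mul_tmul, LinearMap.lTensor_tmul,
              TensorProduct.map_tmul, LinearMap.mulLeft_apply]
            congr 1
            show Submodule.Quotient.mk (algebraMap B L b * l) = b • (Submodule.Quotient.mk l : L ⧸ M0)
            rw [← Submodule.Quotient.mk_smul, Algebra.smul_def]
        rw [key, hw, map_zero]
    intro w hw
    rw [show S = Submodule.span T (s : Set W) from hspan] at hw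
    induction hw using Submodule.span_induction with
    | zero => simp
    | add a b _ _ ha hb => rw [map_add, ha, hb, add_zero]
    | smul t a _ ha =>
      have h : t • a = β' t * a := by rw [Algebra.smul_def]; rfl
      rw [h]; exact hlin t a ha
    | mem w hw =>
      rw [show w = ι (z ⟨w, hw⟩) from (hz ⟨w, hw⟩).symm]
      show π.lTensor F ((1 : F) ⊗ₜ[A] _) = 0
      rw [LinearMap.lTensor_tmul]
      have : π (z ⟨w, hw⟩ : L) = 0 := (Submodule.Quotient.mk_eq_zero M0).2 (Submodule.subset_span ⟨⟨w, hw⟩, rfl⟩)
      rw [this, TensorProduct.tmul_zero]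
  have hM0 : Subalgebra.toSubmodule (integralClosure B L) = M0 := by
    refine le_antisymm (fun x hx => ?_) (Submodule.span_le.2 (by rintro _ ⟨w, rfl⟩; exact (z w).2))
    have h := hkill (ι ⟨x, hx⟩) (Submodule.subset_span ⟨_, rfl⟩)
    change (1 : F) ⊗ₜ[A] π x = 0 at h
    rw [Module.FaithfullyFlat.one_tmul_eq_zero_iff] at h
    exact (Submodule.Quotient.mk_eq_zero M0).1 h
  have : Module.Finite B (Subalgebra.toSubmodule (integralClosure B L)) := by
    rw [hM0]
    exact Module.Finite.span_of_finite B (Set.finite_range _)
  exact this

/-- Generically étale over a local ring with reduced completion: the generic fibre over the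
completion is reduced. -/
theorem isReduced_tensor_of_etale (A F : Type u) [CommRing A] [CommRing F] [Algebra A F] [IsReduced F]
    (B L : Type u) [CommRing B] [IsDomain B] [Field L] [Algebra A B] [Algebra A L] [Algebra B L] [IsScalarTower A B L]
    [Algebra.Etale A B] [IsFractionRing B L] : IsReduced (F ⊗[A] L) := by
  haveI : IsReduced (F ⊗[A] B) := Unr55.isReduced_of_etale (A := F)
  letI := (Algebra.TensorProduct.map (AlgHom.id F F) (IsScalarTower.toAlgHom A B L)).toRingHom.toAlgebra
  haveI := isLocalization_tensor A F B L B⁰
  exact isReduced_of_injective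
    (IsLocalization.algEquiv (B⁰.map (Algebra.TensorProduct.includeRight (R := A) (A := F))) (F ⊗[A] L)
      (Localization (B⁰.map (Algebra.TensorProduct.includeRight (R := A) (A := F))))).toRingEquiv.toRingHom
    (RingEquiv.injective _)

end Groth.Agent.Res23.UnramNorm
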